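import Cfsg.Agent.Mas.Z0
import Cfsg.Agent.S3109

/-!
# Groups of characteristic 2 and 3 type: the dihedral lemma modulo cores and related facts
-/

set_option autoImplicit false

namespace Cfsg.Lib.Mas

open Subgroup Cfsg.Lib.Char.KM Cfsg.Lib.Trans Cfsg.Lib.Solv Cfsg.Lib.Solv.Coprime Cfsg.Lib.Ngrp
open scoped commutatorElement IsMulCommutative

variable {G : Type*} [Group G] [Finite G] {P : Sylow 3 G} {B : Subgroup G}

namespace Z1

/-- The `p'`-core of `N(T)` lies in that of a `p`-constrained overgroup of `T C(T)`. -/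
theorem core_le {p : ℕ} [Fact p.Prime] {H T : Subgroup G} (hc : IsPConstrained p H)
    (hT : IsPGroup p T) (hTH : T ≤ H) (hCH : centralizer (T : Set G) ≤ H) :
    ppCoreOf p (normalizer (T : Set G)) ≤ ppCoreOf p H := by
  set K := ppCoreOf p (normalizer (T : Set G)) with hK
  have hKN : K ≤ normalizer (T : Set G) := ppCoreOf_le _ _
  have hNK : normalizer (T : Set G) ≤ normalizer (K : Set G) := le_normalizer_ppCoreOf _ _
  have hcop : (Nat.card K).Coprime p := coprime_ppCoreOf _ _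
  have hKC : K ≤ centralizer (T : Set G) := fun k hk => mem_centralizer_iff.2 fun t ht => by
    have h1 : ⁅t, k⁆ ∈ T := by
      have e : ⁅t, k⁆ = t * (k * t⁻¹ * k⁻¹) := by simp only [commutatorElement_def]; group
      rw [e]
      exact mul_mem ht ((mem_normalizer_iff.1 (hKN hk) _).1 (inv_mem ht))
    have h2 : ⁅t, k⁆ ∈ K :=
      mul_mem ((mem_normalizer_iff.1 (hNK (le_normalizer ht)) _).1 hk) (inv_mem hk)
    obtain ⟨n, hn⟩ := PG.exists_pow_prime_pow_eq_one hT h1
    have h3 : orderOf ⁅t, k⁆ = 1 := Nat.eq_one_of_dvd_coprimes (hcop.pow_right n)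
      (K.orderOf_dvd_natCard h2) (orderOf_dvd_of_pow_eq_one hn)
    exact commutatorElement_eq_one_iff_mul_comm.1 (orderOf_eq_one_iff.1 h3)
  have h1 := ppCoreOf_inf_centralizer_of_con hc hT hTH
  rw [inf_eq_right.2 hCH] at h1
  exact ((le_ppCoreOf hKC ((centralizer_le_normalizer _).trans hNK) hcop).trans h1.le).trans
    inf_le_left

/-- A 2-element of `O_{3',3}(H)` is trivial if `O_{3'}(H)` has odd order. -/
theorem eq_one_of_opOf {H : Subgroup G} (ho : Odd (Nat.card (ppCoreOf 3 H))) {x : G}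
    (hx : x ∈ opOf 3 H) {k : ℕ} (hk : x ^ 2 ^ k = 1) : x = 1 := by
  have : Fact (Nat.Prime 3) := ⟨Nat.prime_three⟩
  have h1 : orderOf x ∣ 2 ^ k := orderOf_dvd_of_pow_eq_one hk
  have h2 := le_ppCoreOf_of_le_opOf (zpowers_le.2 hx) (by
    rw [Nat.card_zpowers]
    exact Nat.Coprime.coprime_dvd_left h1 (Nat.Coprime.pow_left _ (by decide))) (mem_zpowers x)
  exact orderOf_eq_one_iff.1 (Nat.eq_one_of_dvd_coprimes
    (Nat.Coprime.pow_right k (Nat.coprime_two_right.2 ho)) (Subgroup.orderOf_dvd_natCard _ h2) h1)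

theorem odd_opOf {H : Subgroup G} (ho : Odd (Nat.card (ppCoreOf 3 H))) :
    Odd (Nat.card (opOf 3 H)) := by
  have : Fact (Nat.Prime 2) := ⟨Nat.prime_two⟩
  rw [← Nat.not_even_iff_odd, even_iff_two_dvd]
  intro hd
  obtain ⟨x, hx⟩ := exists_prime_orderOf_dvd_card' 2 hd
  have h1 : (x : G) ^ 2 ^ 1 = 1 := by
    rw [pow_one, ← hx, ← Subgroup.coe_pow, pow_orderOf_eq_one, Subgroup.coe_one]
  have h2 : x = 1 := Subtype.ext (eq_one_of_opOf ho x.2 h1)
  rw [h2, orderOf_one] at hx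
  omega

theorem mem_opOf_of_cent {p : ℕ} [Fact p.Prime] {H R : Subgroup G} (hc : IsPConstrained p H)
    (hR : IsSylowIn p R (opOf p H)) {x : G} (hx : x ∈ H) (h : ∀ t ∈ R, t * x = x * t) :
    x ∈ opOf p H := by
  obtain ⟨T, hT, hRT⟩ := exists_isSylowIn_ge hR.isPGroup (hR.le.trans (opOf_le p H))
  have e := hR.eq_inf hT.isPGroup hRT
  refine (mem_opOf hx).2 (hc.centralizer_le hT.toSylow le_rfl ?_)
  rintro y ⟨hy1, hy2⟩
  rw [hT.coe_toSylow] at hy1
  exact Subtype.ext (h y (e ▸ ⟨hy1, (mem_opOf y.2).2 hy2⟩))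

theorem le_opOf {p : ℕ} {H D : Subgroup G} (hD : IsPGroup p D) (hDH : D ≤ H)
    (hn : H ≤ normalizer (D : Set G)) : D ≤ opOf p H := fun x hx => by
  have hN : (D.subgroupOf H).Normal := (normal_subgroupOf_iff_le_normalizer hDH).2 hn
  exact (mem_opOf (hDH hx)).2
    ((le_pPrimePCore_iff hN).2 ((isPGroup_subgroupOf hD H).map _) (mem_subgroupOf.2 hx))

omit [Finite G] in
theorem comm_le_normalizer {x : G} : C1 x ≤ normalizer (zpowers x : Set G) := by
  rw [C1, ← Trans.centralizer_zpowers_eq]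
  exact centralizer_le_normalizer _

end Z1

open Z0 Z1

theorem H3.dih (h : H3 P B) (hg : ∀ x : G, orderOf x = 3 → Good x) : Dih 3 G := by
  have : Fact (Nat.Prime 3) := ⟨Nat.prime_three⟩
  intro D U hD hDc hD1 hU hU2 hUD
  set N := normalizer (D : Set G) with hN
  obtain ⟨d, hdD, hd⟩ := PG.exists_orderOf_eq_prime hD hD1
  have hd1 : zpowers d ≠ ⊥ := by
    rw [Ne, zpowers_eq_bot]
    rintro rfl
    rw [orderOf_one] at hd
    omega
  have ho : Odd (Nat.card (ppCoreOf 3 N)) := Odd.of_dvd_nat (hg d hd) (card_dvd_of_le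
    (core_le (h.con _ (hD.to_le (zpowers_le.2 hdD)) hd1) hD
      (le_trans (fun x hx => mem_C1.2 (comm_of_mem hDc hx hdD)) comm_le_normalizer)
      ((centralizer_le_C1 hdD).trans comm_le_normalizer)))
  have hUN : U ≤ N := hUD.trans (centralizer_le_normalizer _)
  have hU2' := isPGroup_two_of_sq hU2
  obtain ⟨R, hDR, hRK, hR, hRi, hUR⟩ := exists_le_invariant_sylow'
    (hUN.trans (le_normalizer_opOf 3 N))
    (coprime_of_odd hU2' (Nat.coprime_two_right.2 (odd_opOf ho)))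
    (Or.inl (isSolvable_of_isMulCommutative U)) (le_opOf hD le_normalizer le_rfl) hD hUN
  obtain ⟨A, h1, h2, h3, h4, h5, h6⟩ := exists_selfCent (by decide) hR hDR hDc
    (hRK.trans (opOf_le 3 N)) hUN hUR hU hU2
  refine ⟨A, h1, h3, fun v hv hv1 =>
    exists_eigen (by decide) (hR.to_le h2) h3 h5 hU hU2 hv fun hc => ?_⟩
  have hz : zpowers v ≤ U := zpowers_le.mpr hv
  have hzc : zpowers v ≤ centralizer (A : Set G) := zpowers_le.mpr hc
  have h7 : ⁅R, zpowers v⁆ ≤ A := (le_inf (le_normalizer_iff_commutator_le_left.mp (hz.trans hUR))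
    (commutator_le_centralizer_of_le_centralizer h4 hzc)).trans h6
  have h8 := le_centralizer_of_commutator_le (coprime_of_pgroups (by decide)
    (hU2'.to_le hz) (hR.to_le h2)) h7 hzc (mem_zpowers v)
  exact hv1 (eq_one_of_opOf ho (mem_opOf_of_cent (h.con D hD hD1) ⟨hRK, hR, hRi⟩ (hUN hv)
    (mem_centralizer_iff.1 h8)) (k := 1) (by rw [pow_one, sq, hU2 v hv]))

theorem H3.dvd81 (h : H3 P B) (hg : ∀ x : G, orderOf x = 3 → Good x) (h2 : LocChar 2 G)
    {T E : Subgroup G} (hT : IsPGroup 2 T) (hT1 : T ≠ ⊥) (hE : E ≤ normalizer (T : Set G))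
    (hE3 : IsElementaryAbelian 3 E) (h9 : Nat.card E = 9) : 81 ∣ Nat.card G := by
  have : Fact (Nat.Prime 2) := ⟨Nat.prime_two⟩
  have : Fact (Nat.Prime 3) := ⟨Nat.prime_three⟩
  by_contra h81
  have hPB : (P : Subgroup G) ≤ B := by
    obtain ⟨W, hW, hc⟩ := exists_omega (fun x hx y hy => scn_comm h.scn hx hy) h.rk
    have hWB : Nat.card W ≤ Nat.card B := Trans.card_le_of_le fun x hx => ((hW x).1 hx).1
    by_contra hn
    have h3 := PG.prime_mul_card_dvd_of_lt P.isPGroup'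
      (lt_of_le_of_ne h.scn.1 fun e => hn e.ge)
    obtain ⟨n, hn⟩ := IsPGroup.iff_card.1 (P.isPGroup'.to_le h.scn.1)
    rw [hn] at hWB h3
    have h4 : 2 < n := (Nat.pow_lt_pow_iff_right (by norm_num)).1 (hc.trans_le hWB)
    refine h81 (dvd_trans ?_ (h3.trans (card_subgroup_dvd_card _)))
    rw [← pow_succ']
    exact pow_dvd_pow 3 (by omega : 4 ≤ n + 1)
  have hab : ∀ R : Subgroup G, IsPGroup 3 R → ∀ x ∈ R, ∀ y ∈ R, x * y = y * x := by
    intro R hR x hx y hy
    obtain ⟨g, -, hle⟩ := (isSylowIn_top P).exists_cj_le hR le_top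
    have := scn_comm h.scn (hPB (hle (conj_mem_cj.2 hx))) (hPB (hle (conj_mem_cj.2 hy)))
    calc x * y = g⁻¹ * (g * x * g⁻¹ * (g * y * g⁻¹)) * g := by group
      _ = y * x := by rw [this]; group
  set N := normalizer (T : Set G) with hN
  set Q := (pCore 2 N).map N.subtype with hQdef
  have hQ : IsPGroup 2 Q := isPGroup_map_pCore 2 N
  have hEQ : E ≤ normalizer (Q : Set G) :=
    hE.trans (le_normalizer.trans (normalizer_le_normalizer_map_pCore 2 N))
  have hEp : IsPGroup 3 E := isPGroup_of_pow hE3.2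
  have hEc := hE3.1
  have hcyc : ¬ IsCyclic E := fun hc => by
    obtain ⟨g, hg⟩ := hc.exists_ofOrder_eq_natCard
    have : orderOf g ∣ 3 := orderOf_dvd_of_pow_eq_one (Subtype.ext (by simpa using hE3.2 g g.2))
    have := Nat.le_of_dvd (by norm_num) this
    omega
  have key : Q ≤ centralizer (E : Set G) := by
    refine le_of_forall_centralizer_singleton hcyc hEQ
      (coprime_of_pgroups (by decide) hQ hEp).symm fun a ha ha1 => ?_
    rintro y ⟨hyQ, hya⟩
    refine mem_centralizer_iff.2 fun d hd => ?_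
    have ha3 : orderOf a = 3 := orderOf_eq_prime (hE3.2 a ha) ha1
    have hdM : d ∈ normalizer (zpowers a : Set G) :=
      comm_le_normalizer (mem_C1.2 (comm_of_mem hEc hd ha))
    obtain ⟨R, hR, hdR⟩ := exists_isSylowIn_ge (hEp.to_le (zpowers_le.2 hd)) (zpowers_le.2 hdM)
    have hdo := mem_opOf_of_centralizes (h.con _ (hEp.to_le (zpowers_le.2 ha))
      (by rwa [Ne, zpowers_eq_bot])) hR hdM
      fun t ht => hab R hR.isPGroup d (hdR (mem_zpowers d)) t ht
    have h3 : ⁅d, y⁆ ∈ opOf 3 (normalizer (zpowers a : Set G)) := by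
      have e : ⁅d, y⁆ = d * (y * d⁻¹ * y⁻¹) := by simp only [commutatorElement_def]; group
      rw [e]
      exact mul_mem hdo ((mem_normalizer_iff.1
        (le_normalizer_opOf 3 _ (comm_le_normalizer hya)) _).1 (inv_mem hdo))
    have h4 : ⁅d, y⁆ ∈ Q := mul_mem ((mem_normalizer_iff.1 (hEQ hd) _).1 hyQ) (inv_mem hyQ)
    obtain ⟨k, hk⟩ := PG.exists_pow_prime_pow_eq_one hQ h4
    exact commutatorElement_eq_one_iff_mul_comm.1 (eq_one_of_opOf (hg a ha3) h3 hk)
  have hE1 : E ≠ ⊥ := fun e => by rw [e, card_bot] at h9; omega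
  obtain ⟨d, hdE, hd⟩ := PG.exists_orderOf_eq_prime hEp hE1
  have h5 : (⟨d, hE hdE⟩ : N) ∈ pCore 2 N := h2 T hT hT1 (mem_centralizer_iff.mpr fun y hy =>
    Subtype.ext (mem_centralizer_iff.mp (key ⟨y, hy, rfl⟩) d hdE).symm)
  obtain ⟨k, hk⟩ := PG.exists_pow_prime_pow_eq_one hQ (x := d) ⟨_, h5, rfl⟩
  have h6 := orderOf_dvd_of_pow_eq_one hk
  rw [hd] at h6
  have := Nat.prime_three.dvd_of_dvd_pow h6
  omega

theorem locChar_two [IsSimpleGroup G] (hG : ¬ IsMulCommutative G) (S : Sylow 2 G)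
    {A : Subgroup G} (hA : IsSCN (S : Subgroup G) A) (hA3 : ¬ PRankLE 2 2 A)
    (hcon : ∀ T : Subgroup G, IsPGroup 2 T → T ≠ ⊥ →
      IsPConstrained 2 (normalizer (T : Set G))) : LocChar 2 G := by
  have : Fact (Nat.Prime 2) := ⟨Nat.prime_two⟩
  have h0 := Agent.S3109.result hG hcon S (A.subgroupOf S)
    ((normal_subgroupOf_iff_le_normalizer hA.1).2 hA.2.1)
    (isMulCommutative_of fun x hx y hy => Subtype.ext (scn_comm hA hx hy))
    (by rw [centralizer_subgroupOf hA.1, hA.2.2])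
    fun hr => hA3 fun E hE1 hE2 => by
      have e := subgroupOfEquivOfLe hA.1
      rw [← card_map_of_injective (f := e.symm.toMonoidHom) e.symm.injective]
      refine hr _ (isMulCommutative_of ?_) ?_
      · rintro _ ⟨x, hx, rfl⟩ _ ⟨y, hy, rfl⟩
        rw [← map_mul, ← map_mul, comm_of_mem hE1 hx hy]
      · rintro _ ⟨x, hx, rfl⟩
        rw [← map_pow, hE2 x hx, map_one]
  have hC : ConC G := ⟨fun t ht => ?_, fun t ht => ?_⟩
  · exact fun T hT hT1 => Local.charP_iff.1 (hC.charP_normalizer h0 hT hT1)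
  · have t2 : t * t = 1 := by rw [← sq, ← ht, pow_orderOf_eq_one]
    have t1 : t ≠ 1 := by
      rintro rfl
      rw [orderOf_one] at ht
      omega
    have e : normalizer (zpowers t : Set G) = C1 t := le_antisymm (fun g hg => by
      rcases mem_zpowers_sq t2 ((mem_normalizer_iff.1 hg t).1 (mem_zpowers t)) with e | e
      · exact absurd (by simpa using e) t1
      · exact mem_C1.2 (mul_inv_eq_iff_eq_mul.1 e)) comm_le_normalizer
    rw [← e]
    exact hcon _ (PG.isPGroup_zpowers (k := 1) (by rw [pow_one, sq, t2]))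
      (by rwa [Ne, zpowers_eq_bot])
  · have e : th t = ⊥ := h0 t ht
    rw [e]
    infer_instance

end Cfsg.Lib.Mas
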