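import Cfsg.Agent.Mas.St
import Cfsg.Agent.Trans.PQOdd

/-!
# Groups of characteristic 2 and 3 type: the cores `O_{3'}(N(⟨x⟩))`
-/

set_option autoImplicit false

namespace Cfsg.Lib.Mas.Z2

open Subgroup Cfsg.Lib.Char.KM Cfsg.Lib.Trans Cfsg.Lib.Solv Cfsg.Lib.Ngrp

variable {G : Type*} [Group G] [Finite G] {P : Sylow 3 G} {A B E H X : Subgroup G} {a b f x y : G}

/-- The normaliser of `⟨x⟩`. -/
abbrev N3 (x : G) : Subgroup G := normalizer (zpowers x : Set G)

/-- `O_{3'}(N(⟨x⟩))`. -/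
abbrev th3 (x : G) : Subgroup G := ppCoreOf 3 (N3 x)

/-- Every 3-subgroup has a subgroup of index at most 3 whose elements of order 3 are good. -/
def Big (G : Type*) [Group G] : Prop := ∀ E : Subgroup G, IsPGroup 3 E →
  ∃ F ≤ E, Nat.card E ≤ 3 * Nat.card F ∧ ∀ f ∈ F, orderOf f = 3 → Good f

theorem cop (hA : IsPGroup 3 A) (hX : (Nat.card X).Coprime 3) :
    (Nat.card A).Coprime (Nat.card X) := by
  obtain ⟨n, hn⟩ := IsPGroup.iff_card.1 hA
  exact hn ▸ hX.symm.pow_left n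

theorem cop2 (hX : IsPGroup 2 X) : (Nat.card X).Coprime 3 := by
  obtain ⟨n, hn⟩ := IsPGroup.iff_card.1 hX
  exact hn ▸ Nat.Coprime.pow_left n (by norm_num)

theorem pp_le (hA : IsPGroup 3 A) : ppCoreOf 3 (normalizer (A : Set G)) ≤ centralizer (A : Set G) :=
  le_centralizer_of_disjoint (ppCoreOf_le _ _) (le_normalizer.trans (le_normalizer_ppCoreOf _ _))
    (inf_eq_bot_of_coprime_card (cop hA (coprime_ppCoreOf _ _)).symm)

omit [Finite G] in
theorem C1_le (x : G) : C1 x ≤ N3 x := centralizer_zpowers_eq x ▸ centralizer_le_normalizer _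

omit [Finite G] in
theorem conj (h : Good x) (g : G) : Good (g * x * g⁻¹) := by
  rwa [Good, ← cj_zpowers, ← cj_normalizer, ← cj_ppCoreOf, card_cj]

theorem bot (h : Good x) (hX : IsPGroup 2 X) (hle : X ≤ th3 x) : X = ⊥ := by
  obtain ⟨n, hn⟩ := IsPGroup.iff_card.1 hX
  have := Odd.of_dvd_nat h (card_dvd_of_le hle)
  rcases n with _ | n
  · exact card_eq_one.1 hn
  · exact absurd this (by rw [hn, pow_succ]; simp)

theorem good_of (hA : IsPGroup 3 A) (hN : A ≤ N3 x)
    (h : ∀ X : Subgroup G, IsPGroup 2 X → A ≤ normalizer (X : Set G) → X ≤ th3 x → X = ⊥) :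
    Good x := by
  obtain ⟨T, h1, h2, h3, h4⟩ := Coprime.exists_invariant_sylow'
    (hN.trans (le_normalizer_ppCoreOf 3 _)) (cop hA (coprime_ppCoreOf 3 _))
    (Or.inl (Coprime.isSolvable_of_isPGroup hA)) 2
  rw [h T h2 h4 h1, relIndex_bot_left] at h3
  exact Nat.odd_iff.2 (Nat.two_dvd_ne_zero.1 h3)

omit [Finite G] in
theorem con (h : H3 P B) (hx : orderOf x = 3) : IsPConstrained 3 (N3 x) :=
  h.con _ (Local.isPGroup_zpowers_of_orderOf_eq hx) (by
    rw [Ne, zpowers_eq_bot]; rintro rfl; simp at hx)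

theorem bal (h : H3 P B) (ha : orderOf a = 3) (hb : orderOf b = 3) (hab : a * b = b * a) :
    th3 a ⊓ C1 b ≤ th3 b := by
  have h1 := ppCoreOf_inf_centralizer_of_con (con h hb) (Local.isPGroup_zpowers_of_orderOf_eq ha)
    (zpowers_le.2 (C1_le b (mem_C1.2 hab)))
  refine le_trans (le_ppCoreOf ?_ ?_ ?_) (h1.le.trans inf_le_left)
  · exact le_inf (inf_le_right.trans (C1_le b))
      (inf_le_left.trans (pp_le (Local.isPGroup_zpowers_of_orderOf_eq ha)))
  · rw [← centralizer_zpowers_eq b]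
    exact le_normalizer_inf (inf_le_right.trans ((centralizer_le_normalizer _).trans
      (le_normalizer_ppCoreOf _ _))) (le_normalizer_centralizer inf_le_left)
  · exact (coprime_ppCoreOf 3 _).coprime_dvd_left (card_dvd_of_le inf_le_left)

omit [Finite G] in
theorem ord (hE : IsElementaryAbelian 3 E) (hx : x ∈ E) (h1 : x ≠ 1) : orderOf x = 3 :=
  orderOf_eq_prime (hE.2 x hx) h1

omit [Finite G] in
theorem ncyc (hE : IsElementaryAbelian 3 E) (h : 3 < Nat.card E) : ¬ IsCyclic E := fun k => by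
  obtain ⟨g, hg⟩ := k.exists_ofOrder_eq_natCard
  have : orderOf g ≤ 3 := orderOf_le_of_pow_eq_one (by norm_num) (Subtype.ext (hE.2 g g.2))
  omega

omit [Finite G] in
theorem el_z (hx : orderOf x = 3) : IsElementaryAbelian 3 (zpowers x) := ⟨inferInstance, by
  rintro _ ⟨n, rfl⟩
  rw [← zpow_natCast, ← zpow_mul, mul_comm, zpow_mul, zpow_natCast, ← hx, pow_orderOf_eq_one,
    one_zpow]⟩

theorem ext (hE : IsElementaryAbelian 3 E) (hx : x ∈ centralizer (E : Set G)) (h3 : x ^ 3 = 1)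
    (hn : x ∉ E) : IsElementaryAbelian 3 (E ⊔ zpowers x : Subgroup G) ∧
      Nat.card (E ⊔ zpowers x : Subgroup G) = 3 * Nat.card E := by
  have := hE.1
  have hc := PG.isMulCommutative_sup_zpowers hx
  obtain ⟨-, h1, h2, -⟩ := adjoin_elt hc le_sup_left hE.2 (mem_sup_right (mem_zpowers x)) h3 hn
  exact ⟨⟨hc, h1⟩, h2⟩

theorem e9 (ha : orderOf a = 3) (hb : b ^ 3 = 1) (hab : b * a = a * b) (hn : b ∉ zpowers a) :
    IsElementaryAbelian 3 (zpowers a ⊔ zpowers b : Subgroup G) ∧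
      Nat.card (zpowers a ⊔ zpowers b : Subgroup G) = 9 := by
  have := ext (el_z ha) (centralizer_zpowers_eq a ▸ mem_C1.2 hab) hb hn
  rwa [Nat.card_zpowers, ha] at this

theorem gen (h : H3 P B) (hE : IsElementaryAbelian 3 E) (h3 : 3 < Nat.card E)
    (hg : ∀ f ∈ E, orderOf f = 3 → Good f) (hy : orderOf y = 3) (hc : E ≤ C1 y) : Good y := by
  have := hE.1
  refine good_of (isPGroup_of_pow hE.2) (hc.trans (C1_le y)) fun X hX hN hle => eq_bot_iff.2
    (Coprime.le_of_forall_centralizer_singleton (ncyc hE h3) hN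
      (cop (isPGroup_of_pow hE.2) (cop2 hX)) fun f hf h1 => ?_)
  exact (bot (hg f hf (ord hE hf h1)) (hX.to_le inf_le_left) ((inf_le_inf_right _ hle).trans
    (bal h hy (ord hE hf h1) (mem_C1.1 (hc hf)).symm))).le

/-- An `E₉` containing an element that is not good controls its invariant `3'`-subgroups. -/
theorem cap (h : H3 P B) (big : Big G) (hE : IsElementaryAbelian 3 E) (h9 : Nat.card E = 9)
    (hy : y ∈ E) (y3 : orderOf y = 3) (hn : ¬ Good y) (hH : IsPConstrained 3 H) (hEH : E ≤ H)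
    (hXH : X ≤ H) (hX : (Nat.card X).Coprime 3) (hN : E ≤ normalizer (X : Set G)) :
    X ≤ ppCoreOf 3 H := by
  have k : ∀ x : H, (x : G) ∈ E → x ∈ normalizer ((X.subgroupOf H : Subgroup H) : Set H) :=
    fun x hx => mem_normalizer_of_conj_mem fun w hw =>
      conj_mem_of_mem_normalizer (H := X) (hN hx) hw
  have := le_pPrimeCore_of_pq_odd (by norm_num) hH (isPGroup_subgroupOf (isPGroup_of_pow hE.2) H)
    (Q := X.subgroupOf H) (by rwa [card_subgroupOf_of_le hXH]) k fun x hx h3 => k x (by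
      by_contra hxE
      rw [Ngrp.centralizer_subgroupOf hEH] at hx
      obtain ⟨h1, h2⟩ := ext hE hx.2 (congrArg Subtype.val h3) hxE
      obtain ⟨F, hF, h4, h5⟩ := big _ (isPGroup_of_pow h1.2)
      exact hn (gen h ⟨isMulCommutative_of fun _ p _ q => comm_of_mem h1.1 (hF p) (hF q),
        fun _ p => h1.2 _ (hF p)⟩ (by omega) h5 y3 fun _ p =>
          mem_C1.2 (comm_of_mem h1.1 (hF p) (mem_sup_left hy))))
  exact fun x hx => ⟨⟨x, hXH hx⟩, this hx, rfl⟩

end Cfsg.Lib.Mas.Z2
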