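import Cfsg.Agent.Mas.A3

/-!
# The bad configuration, part 4: an invariant 2-subgroup normalized by `u`
-/

set_option autoImplicit false
set_option linter.unusedVariables false

namespace Cfsg.Lib.Mas

open Subgroup Cfsg.Lib.Char.KM Cfsg.Lib.Trans Cfsg.Lib.Local
open scoped commutatorElement IsMulCommutative

variable {G : Type*} [Group G]

/-- Maximal invariant 2-subgroups of `C(Z(T))`, `T` maximal in `C(b)`. -/
def PiT (A : Subgroup G) (b : G) (R : Subgroup G) : Prop :=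
  ∃ T, Mx A (centralizer {b}) T ∧ Zc T ≠ ⊥ ∧ Mx A (centralizer (Zc T : Set G)) R

theorem cj_cent (g b : G) : cj g (centralizer {b}) = centralizer {g * b * g⁻¹} := by
  rw [cj_centralizer_set, Set.image_singleton]

theorem cj_Zc (g : G) (T : Subgroup G) : cj g (Zc T) = Zc (cj g T) := by
  rw [cj_inf, cj_centralizer]

theorem PiT.cj {A R : Subgroup G} {b g : G} (hR : PiT A b R) (hg : g ∈ normalizer (A : Set G)) :
    PiT A (g * b * g⁻¹) (cj g R) := by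
  obtain ⟨T, h1, h2, h3⟩ := hR
  refine ⟨Trans.cj g T, cj_cent g b ▸ h1.cj hg, ?_, ?_⟩
  · rw [← cj_Zc]; exact fun e => h2 (cj_eq_bot.1 e)
  · rw [← cj_Zc, ← cj_centralizer]; exact h3.cj hg

namespace St

variable {A O : Subgroup G} {z u : G} {a : ZMod 3 → G} (h : St A O z u a) [Finite G]
  {D P Q : Subgroup G}
include h

theorem zc_ne_bot {X : Subgroup G} (hX : Inv A X) (h1 : X ≠ ⊥) : Zc X ≠ ⊥ := fun e => by
  refine h1 (le_bot_iff.1 fun x hx => e ▸ mem_inf.2 ⟨hx, fun y hy => ?_⟩)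
  have := h.cls hX hy hx
  rw [e, mem_bot] at this
  exact commutatorElement_eq_one_iff_mul_comm.1 this

theorem g0 (b : Bad A O ⊤ D P Q) {X : Subgroup G} (hX : Inv A X) {x : G} (hx : x ∈ X)
    (hx1 : x ≠ 1) {l : ZMod 3} (hl : x * a l = a l * x)
    (c1 : Nat.card D < Nat.card (P ⊓ centralizer (Fx z x : Set G) : Subgroup G))
    (c2 : Nat.card D < Nat.card (Q ⊓ centralizer (Fx z x : Set G) : Subgroup G)) : False := by
  have hF := h.inv_Fx hX hx hl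
  have hn := Solv.le_normalizer_centralizer hF.2
  obtain ⟨R₁, h1, k1⟩ := exists_mx (b.p.1.inf hn) inf_le_right
  obtain ⟨R₂, h2, k2⟩ := exists_mx (b.q.1.inf hn) inf_le_right
  obtain ⟨c, hc, -, e⟩ := h.trans_F hF (fun e => hx1 (mem_bot.1 (e ▸ mem_Fx z x)))
    (h.Fx_comm hX hx) (h.Fx_cent hl) h1 h2
  exact h.star b hc (mem_top c) h2.1 le_top (e ▸ cj_mono c k1) inf_le_left k2 inf_le_left c1 c2

theorem lt_cent (b : Bad A O ⊤ D P Q) {x : G} (hx : x ∈ Zc P) :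
    Nat.card D < Nat.card (P ⊓ centralizer (Fx z x : Set G) : Subgroup G) := by
  rw [inf_eq_left.2 fun w hw => h.mem_cent_Fx b.p.1 hx.1 hw (hx.2 w hw)]
  exact card_lt_of_not_le b.DP b.not_le

theorem zz (b : Bad A O ⊤ D P Q) : Zc P ⊓ Zc Q ≤ ⊥ := by
  by_contra hne
  obtain ⟨l, x, hx, hl, hx1⟩ := h.exists_Ty (b.p.1.zc.inf b.q.1.zc.2) hne
  exact h.g0 b b.p.1 hx.1.1 hx1 hl (h.lt_cent b hx.1) (h.lt_cent b.symm hx.2)

theorem dab (b : Bad A O ⊤ D P Q) : D ≤ centralizer (D : Set G) := fun x hx y hy =>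
  commutatorElement_eq_one_iff_mul_comm.1 (mem_bot.1 (h.zz b
    ⟨h.cls b.p.1 (b.DP hy) (b.DP hx), h.cls b.q.1 (b.symm.DP hy) (b.symm.DP hx)⟩))

theorem zc_le (b : Bad A O ⊤ D P Q) : Zc P ≤ D := fun x hx =>
  b.cent (mem_top x) (centralizer_le b.DP hx.2)

theorem g1 (b : Bad A O ⊤ D P Q) {w y : G} (hw : w ∈ P) (hwD : w ∉ D) (hy : y ∈ Zc Q)
    (hy1 : y ≠ 1) {j : ZMod 3} (hj : y * a j = a j * y) (hc : w * y = y * w) : False := by
  have hyD := h.zc_le b.symm hy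
  refine h.g0 b b.q.1 hy.1 hy1 hj (card_lt_of_mem (le_inf b.DP ?_)
    ⟨hw, h.mem_cent_Fx b.p.1 (b.DP hyD) hw hc⟩ hwD) (h.lt_cent b.symm hy)
  exact (h.dab b).trans (centralizer_le (h.Fx_le_of b.inv.2 hyD))

theorem step (b : Bad A O ⊤ D P Q) {w : G} (hw : w ∈ P) (hwD : w ∉ D) {i j : ZMod 3}
    (hi : w * a i = a i * w) (hj : ∃ y ∈ Zc Q, y ≠ 1 ∧ y * a j = a j * y) :
    ∃ y ∈ Zc P, y ≠ 1 ∧ y * a (-i - j) = a (-i - j) * y := by
  obtain ⟨y, hy, hy1, hj⟩ := hj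
  have hyP := b.DP (h.zc_le b.symm hy)
  exact ⟨⁅w, y⁆, h.cls b.p.1 hw hyP,
    fun e => h.g1 b hw hwD hy hy1 hj (commutatorElement_eq_one_iff_mul_comm.1 e),
    h.ty_comm b.p.1 hw hyP hi hj⟩

theorem zty (b : Bad A O ⊤ D P Q) (j : ZMod 3) : ∃ y ∈ Zc P, y ≠ 1 ∧ y * a j = a j * y := by
  obtain ⟨i, w₁, h1, t1, h1D⟩ := h.exists_Ty b.p.1 b.not_le
  obtain ⟨k, w₂, h2, t2, h2D⟩ := h.exists_Ty b.q.1 b.symm.not_le
  have hik : i ≠ k := fun e => h.k7 b h1 h1D t1 h2 h2D (e ▸ t2)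
  have st : ∀ j, (∃ y ∈ Zc P, y ≠ 1 ∧ y * a j = a j * y) →
      ∃ y ∈ Zc P, y ≠ 1 ∧ y * a (-i - (-k - j)) = a (-i - (-k - j)) * y := fun j hj =>
    h.step b h1 h1D t1 (h.step b.symm h2 h2D t2 hj)
  obtain ⟨l, y, hy, hl, hy1⟩ := h.exists_Ty (H := ⊥) b.p.1.zc fun e =>
    h.zc_ne_bot b.p.1 (fun e => b.not_le (e ▸ bot_le)) (le_bot_iff.1 e)
  have s0 : ∃ y ∈ Zc P, y ≠ 1 ∧ y * a l = a l * y := ⟨y, hy, hy1, hl⟩
  have : ∀ i k j l : ZMod 3, i ≠ k → j = l ∨ j = -i - (-k - l) ∨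
      j = -i - (-k - (-i - (-k - l))) := by decide
  rcases this i k j l hik with rfl | rfl | rfl
  exacts [s0, st _ s0, st _ (st _ s0)]

theorem ty_ne_bot (b : Bad A O ⊤ D P Q) (j : ZMod 3) : Ty (a j) D ≠ ⊥ := fun e => by
  obtain ⟨y, hy, hy1, hj⟩ := h.zty b j
  exact hy1 (mem_bot.1 (e ▸ mem_Ty.2 ⟨h.zc_le b hy, hj⟩))

theorem g5 (b : Bad A O ⊤ D P Q) (j : ZMod 3) : Mx A (centralizer (Ty (a j) D : Set G)) D := by
  refine ⟨b.inv, (h.dab b).trans (centralizer_le inf_le_left), fun S hS hSc hDS => ?_⟩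
  refine le_antisymm (fun w hw => ?_) hDS
  by_contra hwD
  obtain ⟨R, hR, hSR⟩ := exists_mx hS le_top
  have key : ∀ {P Q : Subgroup G}, Bad A O ⊤ D P Q → Cj O ⊤ R Q := by
    intro P Q b
    by_contra nc
    have b' := b.same hR b.q nc (hDS.trans hSR) b.symm.DP
    obtain ⟨y, hy, hy1, hj⟩ := h.zty b'.symm j
    exact h.g1 b' (hSR hw) hwD hy hy1 hj (hSc hw y (mem_Ty.2 ⟨h.zc_le b'.symm hy, hj⟩)).symm
  exact b.nc ((key b.symm).symm.trans (key b))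

theorem g6 (b : Bad A O ⊤ D P Q) {j : ZMod 3} {T : Subgroup G}
    (hT : Mx A (centralizer {a j}) T) (hD : Ty (a j) D ≤ T) : Zc T ≤ D := fun x hx => by
  obtain ⟨R, hR, hZR⟩ := exists_mx (M := centralizer (Ty (a j) D : Set G)) hT.1.zc
    (inf_le_right.trans (centralizer_le hD))
  obtain ⟨c, hc, hcM, e⟩ := h.trans_F (h.inv_Ty b.inv j) (h.ty_ne_bot b j)
    (inf_le_left.trans ((h.dab b).trans (centralizer_le inf_le_left))) inf_le_right (h.g5 b j) hR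
  have h1 : c⁻¹ * x * c ∈ D := mem_cj.1 (e ▸ hZR hx)
  have h2 : c⁻¹ * x * c ∈ centralizer ({a j} : Set G) := by
    have hc' : c ∈ centralizer ({a j} : Set G) :=
      mem_centralizer_singleton_iff.2 (h.Oc hc _ (h.aA j)).symm
    exact mul_mem (mul_mem (inv_mem hc') (hT.2.1 hx.1)) hc'
  have h3 := conj_eq_of_mem_centralizer hcM (show c⁻¹ * x * c ∈ Ty (a j) D from ⟨h1, h2⟩)
  have h4 : x = c⁻¹ * x * c := by rw [← h3]; group
  rwa [h4]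

theorem pi_cj {j : ZMod 3} {R R' : Subgroup G} (hR : PiT A (a j) R) (hR' : PiT A (a j) R') :
    ∃ c ∈ O, cj c R = R' := by
  obtain ⟨T, h1, h2, h3⟩ := hR
  obtain ⟨T', k1, k2, k3⟩ := hR'
  obtain ⟨c, hc, -, rfl⟩ := h.trans_a j h1 k1
  have h4 := h3.cj (h.OA hc)
  rw [cj_centralizer, cj_Zc] at h4
  obtain ⟨d, hd, -, e⟩ := h.trans_F k1.1.zc k2 (inf_le_right.trans (centralizer_le inf_le_left))
    (inf_le_left.trans k1.2.1) h4 k3
  exact ⟨d * c, mul_mem hd hc, by rw [← e, cj_cj]⟩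

theorem g7 (b : Bad A O ⊤ D P Q) {w : G} (hw : w ∈ P) (hwD : w ∉ D) {i : ZMod 3}
    (hi : w * a i = a i * w) : ∃ R, PiT A (a i) R ∧ Inv A R ∧ D ≤ R ∧ w ∈ R := by
  obtain ⟨T, hT, hPT⟩ := exists_mx (h.inv_Ty b.p.1 i) inf_le_right
  have hwT : w ∈ T := hPT (mem_Ty.2 ⟨hw, hi⟩)
  have hZ := h.g6 b hT ((inf_le_inf_right _ b.DP).trans hPT)
  obtain ⟨R, hR, hSR⟩ := exists_mx (b.p.1.inf (Solv.le_normalizer_centralizer hT.1.zc.2))
    inf_le_right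
  refine ⟨R, ⟨T, hT, h.zc_ne_bot hT.1 fun e => hwD ?_, hR⟩, hR.1,
    (le_inf b.DP ((h.dab b).trans (centralizer_le hZ))).trans hSR,
    hSR ⟨hw, fun y hy => (hy.2 w hwT).symm⟩⟩
  rw [e, mem_bot] at hwT
  rw [hwT]; exact one_mem _

theorem eq_D (b : Bad A O ⊤ D P Q) {R : Subgroup G} (hR : Inv A R) (hD : D ≤ R) {l : ZMod 3}
    (hl : Ty (a l) R ≤ D) : R ⊓ centralizer (Ty (a l) R : Set G) = D := by
  have e : Ty (a l) R = Ty (a l) D := le_antisymm (le_inf hl inf_le_right) (inf_le_inf_right _ hD)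
  rw [e]
  exact (h.g5 b l).2.2 _ (hR.inf (Solv.le_normalizer_centralizer (h.inv_Ty b.inv l).2))
    inf_le_right (le_inf hD (h.g5 b l).2.1)

theorem g8 (b : Bad A O ⊤ D P Q) : ∃ c ∈ O, cj c D = cj u D := by
  obtain ⟨P, Q, b, i, w₁, w₂, h1, h1D, t1, h2, h2D, t2⟩ := h.k8 b
  obtain ⟨R₁, p1, i1, d1, m1⟩ := h.g7 b h1 h1D t1
  obtain ⟨R₂, p2, i2, d2, m2⟩ := h.g7 b.symm h2 h2D t2
  obtain ⟨Q₁, q1, r1⟩ := exists_mx i1 le_top
  obtain ⟨Q₂, q2, r2⟩ := exists_mx i2 le_top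
  have c1 := b.cj_of b.p q1 inf_le_left inf_le_right
    (card_lt_of_mem (le_inf b.DP (d1.trans r1)) ⟨h1, r1 m1⟩ h1D)
  have c2 := b.cj_of b.q q2 inf_le_left inf_le_right
    (card_lt_of_mem (le_inf b.symm.DP (d2.trans r2)) ⟨h2, r2 m2⟩ h2D)
  have b' := b.same q1 q2 (fun e => b.nc (c1.trans (e.trans c2.symm))) (d1.trans r1) (d2.trans r2)
  have dis : ∀ l, Ty (a l) R₁ ≤ D ∨ Ty (a l) R₂ ≤ D := by
    intro l
    by_contra hne
    obtain ⟨n1, n2⟩ := not_or.1 hne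
    obtain ⟨x, hx, hxD⟩ := SetLike.not_le_iff_exists.1 n1
    obtain ⟨y, hy, hyD⟩ := SetLike.not_le_iff_exists.1 n2
    exact h.k7 b' (r1 hx.1) hxD (mem_Ty.1 hx).2 (r2 hy.1) hyD (mem_Ty.1 hy).2
  have s1 : Ty (a (i + 1)) R₁ ≤ D :=
    (dis _).resolve_right fun e => h2D (e (mem_Ty.2 ⟨m2, t2⟩))
  have s2 : Ty (a i) R₂ ≤ D := (dis _).resolve_left fun e => h1D (e (mem_Ty.2 ⟨m1, t1⟩))
  obtain ⟨l, l1, l2⟩ : ∃ l, Ty (a l) R₁ ≤ D ∧ Ty (a (l + 1)) R₂ ≤ D := by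
    rcases dis (i + 1 + 1) with e | e
    · refine ⟨_, e, ?_⟩
      have : ∀ i : ZMod 3, i + 1 + 1 + 1 = i := by decide
      rwa [this]
    · exact ⟨_, s1, e⟩
  have p3 := p1.cj h.uA
  rw [h.ua] at p3
  obtain ⟨c, hc, e⟩ := h.pi_cj p3 p2
  refine ⟨c⁻¹, inv_mem hc, (cj_eq_iff_eq_cj_inv.1 ?_).symm⟩
  calc cj c (cj u D) = cj c (cj u (R₁ ⊓ centralizer (Ty (a l) R₁ : Set G))) := by
        rw [h.eq_D b i1 d1 l1]
    _ = R₂ ⊓ centralizer (Ty (a (l + 1)) R₂ : Set G) := by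
        rw [cj_inf, cj_inf, cj_centralizer, cj_centralizer, cj_inf, cj_inf, e, cj_cent, cj_cent,
          h.ua, h.O_comm hc (h.aA _)]
    _ = D := h.eq_D b i2 d2 l2

theorem g9 {X : Subgroup G} (hX : Inv A X) (hX1 : X ≠ ⊥) {v c : G}
    (hv : v ∈ normalizer (O : Set G)) (huv : u ∈ zpowers v) (hc : c ∈ O)
    (e : cj c X = cj v X) : ∃ X : Subgroup G, IsPGroup 2 X ∧ X ≠ ⊥ ∧
      A ≤ normalizer (X : Set G) ∧ u ∈ normalizer (X : Set G) := by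
  obtain ⟨H, hH⟩ := exists_sub (N := normalizer (O : Set G))
    (fun g => ∃ k ∈ O, cj k X = cj (g : G) X) ⟨1, one_mem _, rfl⟩ (by
      rintro g g' ⟨k, hk, e1⟩ ⟨k', hk', e2⟩
      refine ⟨g * k' * (g : G)⁻¹ * k, mul_mem (mem_normalizer_conj g.2 hk') hk, ?_⟩
      rw [cj_mul, e1, coe_mul, cj_mul (g : G) g', ← e2, cj_cj, cj_cj, inv_mul_cancel_right])
  have hu : zpowers u ≤ H := zpowers_le.2 (zpowers_le.2 ((hH ⟨v, hv⟩).2 ⟨c, hc, e⟩) huv)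
  have hO : zpowers u ≤ normalizer (O : Set G) := zpowers_le.2 h.uO
  obtain ⟨k, hk, hn⟩ := Solv.Coprime.exists_conj_invariant (P := X) hO
    (Nat.Coprime.coprime_dvd_left
      (by rw [Nat.card_zpowers]; exact orderOf_dvd_of_pow_eq_one h.u3) h.O3.symm)
    (Or.inl inferInstance) fun g hg => (hH ⟨g, hO hg⟩).1 (hu hg)
  rw [conj_smul_eq_cj] at hn
  exact ⟨cj k X, (hX.cj (h.OA hk)).1, fun e => hX1 (cj_eq_bot.1 e), (hX.cj (h.OA hk)).2,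
    hn (mem_zpowers u)⟩

end St

theorem stOut (G : Type*) [Group G] [Finite G] : StOut G := by
  intro A O z u a h
  by_cases hb : ∃ P Q, Mx A ⊤ P ∧ Mx A ⊤ Q ∧ ¬ Cj O ⊤ P Q ∧ P ⊓ Q ≠ ⊥
  · obtain ⟨P, Q, hP, hQ, nc, hne⟩ := hb
    obtain ⟨P, Q, hP, hQ, nc, hne, hmx⟩ := exists_bad (fun X => X ≠ ⊥)
      (fun X Y hX hc e => hX (by
        rw [e, card_bot] at hc
        exact eq_bot_of_card_le _ hc)) hP hQ nc hne
    have b : Bad A O ⊤ (P ⊓ Q) P Q := by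
      refine ⟨by rw [normalizer_eq_top]; exact le_top, ?_, hP, hQ, nc, rfl, hmx⟩
      rw [top_inf_eq]
      exact charP_iff.2 (h.loc _ (hP.1.1.to_le inf_le_left) hne)
    obtain ⟨c, hc, e⟩ := h.g8 b
    exact h.g9 b.inv hne h.uO (mem_zpowers u) hc e
  obtain ⟨X, x1, x2, x3, x4⟩ := h.ex
  obtain ⟨T, hT, hXT⟩ := exists_mx ⟨x1, x2⟩ x4
  have hT1 : T ≠ ⊥ := fun e => x3 (le_bot_iff.1 (e ▸ hXT))
  have hch : CharP 2 (normalizer (T : Set G)) := charP_iff.2 (h.loc T hT.1.1 hT1)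
  set R := pCoreOf 2 (normalizer (T : Set G)) with hR
  have iR : Inv A R := ⟨isPGroup_pCoreOf _,
    (Solv.le_normalizer_normalizer hT.1.2).trans (normalizer_le_normalizer_pCoreOf _)⟩
  have TR : T ≤ R := le_pCoreOf le_normalizer le_rfl hT.1.1
  obtain ⟨j, y, hy, hj, hy0⟩ := h.exists_Ty (H := centralizer {a 0}) iR fun e => by
    refine h.a_ne 0 (eq_one_of_cube iR.1 (hch ⟨hT.1.2 (h.aA 0), fun y hy => ?_⟩) (h.aaa 0))
    exact mem_centralizer_singleton_iff.1 (e hy)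
  obtain ⟨S, hS, hRS⟩ := exists_mx iR le_top
  obtain ⟨T', hT', hRT⟩ := exists_mx (h.inv_Ty iR j) inf_le_right
  have hS1 : S ≠ ⊥ := fun e => hT1 (le_bot_iff.1 (e ▸ TR.trans hRS))
  have key : ∀ v : G, v ∈ normalizer (O : Set G) → v ∈ normalizer (A : Set G) → u ∈ zpowers v →
      v * a 0 * v⁻¹ = a j → ∃ X : Subgroup G, IsPGroup 2 X ∧ X ≠ ⊥ ∧
        A ≤ normalizer (X : Set G) ∧ u ∈ normalizer (X : Set G) := by
    intro v vO vA huv hv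
    have m1 := hT.cj vA
    rw [cj_cent, hv] at m1
    obtain ⟨c, hc, -, e⟩ := h.trans_a j m1 hT'
    have m2 := hS.cj vA
    rw [cj_top] at m2
    have m3 := h.mx_cj m2 hc (mem_top c)
    obtain ⟨d, hd, -, e'⟩ : Cj O ⊤ S (cj c (cj v S)) := by
      by_contra nc
      refine hb ⟨_, _, hS, m3, nc, fun e' => hy0 ?_⟩
      have : y ∈ S ⊓ cj c (cj v S) := ⟨hRS hy,
        cj_mono c (cj_mono v (TR.trans hRS)) (e ▸ hRT (mem_Ty.2 ⟨hy, hj⟩))⟩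
      rw [e', mem_bot] at this
      rw [this]
      exact one_mem _
    refine h.g9 hS.1 hS1 vO huv (mul_mem (inv_mem hc) hd) ?_
    rw [cj_mul, e', cj_inv_cj]
  rcases zmod3_cases j 0 with rfl | rfl | rfl
  · exact (hy0 (mem_centralizer_singleton_iff.2 hj)).elim
  · exact key u h.uO h.uA (mem_zpowers u) (h.ua 0)
  · refine key (u * u) (mul_mem h.uO h.uO) (mul_mem h.uA h.uA) ⟨2, ?_⟩ ?_
    · change (u * u) ^ (2 : ℤ) = u
      calc (u * u) ^ (2 : ℤ) = u ^ 3 * u := by rw [zpow_two, pow_succ, pow_two]; group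
        _ = u := by rw [h.u3, one_mul]
    · rw [← h.ua, ← h.ua]; group

end Cfsg.Lib.Mas
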