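import Cfsg.Agent.Mas.K5
import Cfsg.Agent.SporChar.Singular
import Cfsg.Agent.Trans.SylowIn
import Cfsg.Agent.S2934

/-!
# The extraspecial group `O₂(C(u))`
-/

set_option autoImplicit false
set_option linter.unusedSectionVars false

open scoped commutatorElement IsMulCommutative

namespace Cfsg.Lib.Mas

open Subgroup Cfsg.Lib.Solv Cfsg.Lib.Solv.Coprime Cfsg.Lib.Local
open Cfsg.Lib.Char.KM hiding pair_of_four pair_of_eight

variable {G : Type*} [Group G] [Finite G]

theorem crit_of_pre {Q : Subgroup G} {u : G} (hQ : PreLX Q u) : Crit u Q where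
  pgrp := hQ.isPGroup
  cent := hQ.central
  norm g hg := hQ.norm (mem_centralizer_singleton_iff.2 hg)
  four x hx := by
    rw [show x ^ 4 = x * x * (x * x) by simp only [pow_succ, pow_zero, one_mul, mul_assoc]]
    exact hQ.mul_self_of_mem (hQ.sq_mem x hx)
  sq x hx := hQ.cent_eq ▸ (sq x ▸ hQ.sq_mem x hx)
  comm x hx y hy := hQ.cent_eq ▸ hQ.commutator_mem hx hy
  faith g _ ho hc := orderOf_eq_one_iff.1 (Nat.eq_one_of_dvd_coprimes ho dvd_rfl
    (orderOf_dvd_of_pow_eq_one (by rw [sq]; exact hQ.mul_self_of_mem (hQ.cent hc))))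

theorem exists_nine {D : Subgroup G} {u x : G} (h : Pair 3 D u) (h9 : Nat.card D = 9)
    (hx : x ∈ centralizer ({u} : Set G)) (ho : orderOf x = 3) :
    ∃ D' : Subgroup G, Pair 3 D' u ∧ Nat.card D' = 9 ∧ x ∈ D' := by
  have := Fact.mk Nat.prime_three
  have hp := pair_zpowers ho h.sq h.ne (mem_centralizer_singleton_iff.1 hx)
  obtain ⟨S, hS, hxS⟩ := Trans.exists_isSylowIn_ge (isPGroup_of_pow hp.pow) (zpowers_le.2 hx)
  obtain ⟨y, y1, y2, y3, y4⟩ : ∃ y ∈ S, y ^ 3 = 1 ∧ y ∉ zpowers x ∧ x * y = y * x := by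
    obtain ⟨c, c1, c2, -, c3⟩ := PG.exists_mem_centralizer_orderOf_eq hS.isPGroup hS.isPGroup
      le_normalizer fun e => zpowers_ne_bot_three ho (eq_bot_iff.2 (e ▸ hxS))
    by_cases hc : c ∈ zpowers x
    · have e : zpowers c = zpowers x := eq_of_le_of_card_ge (zpowers_le.2 hc) (by
        rw [Nat.card_zpowers, Nat.card_zpowers, ho, c3])
      obtain ⟨g, -, hg⟩ := hS.exists_cj_le (isPGroup_of_pow h.pow)
        fun d hd => mem_centralizer_singleton_iff.2 (h.cent d hd)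
      obtain ⟨y, y1, y2⟩ : ∃ y ∈ Trans.cj g D, y ∉ zpowers x := by
        by_contra! hn
        have := Subgroup.card_le_of_le (show Trans.cj g D ≤ zpowers x from hn)
        rw [Trans.card_cj, h9, Nat.card_zpowers, ho] at this
        omega
      refine ⟨y, hg y1, ?_, y2, ?_⟩
      · have := h.pow _ (Trans.mem_cj.1 y1)
        calc y ^ 3 = g * (g⁻¹ * y * g) ^ 3 * g⁻¹ := by rw [← conj_pow]; group
          _ = 1 := by rw [this]; group
      · exact (mem_centralizer_iff.1 (zpowers_le.2 c2 (e ▸ mem_zpowers x)) y (hg y1)).symm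
    · exact ⟨c, c1, c3 ▸ pow_orderOf_eq_one c, hc, mem_centralizer_iff.1 c2 x (hxS (mem_zpowers x))⟩
  have hA : IsMulCommutative (closure ({x, y} : Set G)) := isMulCommutative_closure (by
    rintro _ (rfl | rfl) _ (rfl | rfl) <;> simp [y4])
  obtain ⟨e1, e2, e3, e4⟩ := adjoin_elt hA (zpowers_le.2 (subset_closure (by simp))) hp.pow
    (subset_closure (by simp)) y2 y3
  exact ⟨_, ⟨isMulCommutative_of fun s hs t ht => comm_of_mem hA (e1 hs) (e1 ht), e2, h.sq, h.ne,
    e4 u hp.cent (mem_centralizer_singleton_iff.1 (hS.le y1))⟩,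
    by rw [e3, Nat.card_zpowers, ho], mem_sup_left (mem_zpowers x)⟩

theorem one_invol (hD : Dih 3 G) (h27 : N27 G) {D : Subgroup G} {u : G} (h : Pair 3 D u)
    (h9 : Nat.card D = 9) (hQ : PreLX (qOf u) u) :
    ∀ x ∈ centralizer ({u} : Set G), orderOf x = 3 → ∀ w ∈ qOf u, w * w = 1 →
      x * w = w * x → w = 1 ∨ w = u := by
  intro x hx ho w hw w2 xw
  have := Fact.mk Nat.prime_three
  have p2 : (3 : ℕ) ≠ 2 := by norm_num
  obtain ⟨D, h, h9, xD⟩ := exists_nine h h9 hx ho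
  have hX := crit_of_pre hQ
  have hm := maxQ_of h27 h h9
  generalize qOf u = Q at hQ hX hw
  by_contra! hn
  have hE : zpowers x ≤ D := zpowers_le.2 xD
  have hi : (zpowers x).relIndex D = 3 := by
    have := card_of_relIndex hE
    rw [h9, Nat.card_zpowers, ho] at this
    omega
  obtain ⟨d, hd, dE⟩ := hm.exists_not_mem p2 hD hi
  have add := hm.add p2 hD hX
  have cx : ∀ {e : G}, Commute x e → ∀ s ∈ zpowers x, s * e = e * s := by
    rintro e he _ ⟨n, rfl⟩
    exact (he.zpow_left n).eq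
  have xd : Commute x d := comm_of_mem h.comm xD hd
  have xw : Commute x w := xw
  have nc := fun g hg hgE => bb_eq_one.2 (hm.not_comm p2 hD hE hi w2 hn.1 hn.2
    (hX.cent w hw).symm (cx xw) (d := g) hg hgE)
  have nm : ∀ y ∈ Q, d * y * d⁻¹ ∈ Q := fun y => (mem_normalizer_iff.1 (hm.norm p2 hD hX hd) y).1
  obtain ⟨v, hv⟩ : ∃ v, v = d * w * d⁻¹ := ⟨_, rfl⟩
  obtain ⟨t, ht⟩ : ∃ t, t = d * v * d⁻¹ := ⟨_, rfl⟩
  have vQ : v ∈ Q := hv ▸ nm w hw
  have tQ : t ∈ Q := ht ▸ nm v vQ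
  have v2 : v * v = 1 := by rw [hv, conj_mul, w2]; group
  have t2 : t * t = 1 := by rw [ht, conj_mul, v2]; group
  have xv : Commute x v := hv ▸ (xd.mul_right xw).mul_right xd.inv_right
  have xt : Commute x t := ht ▸ (xd.mul_right xv).mul_right xd.inv_right
  have b1 : bb w v = 1 := hv ▸ nc d hd dE
  have b2 : bb w t = 1 := by
    have := nc (d * d) (mul_mem hd hd) fun hh => dE (mem_of_sq_mem p2 (h.pow d hd) hh)
    rwa [show d * d * w * (d * d)⁻¹ = t by rw [ht, hv]; group] at this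
  have b3 : bb v t = 1 := by
    rw [ht]
    nth_rewrite 1 [hv]
    rw [bb_conj, b1]
  have dt : d * t * d⁻¹ = w := by
    calc _ = d ^ 3 * w * (d ^ 3)⁻¹ := by
          rw [ht, hv]; simp only [pow_succ, pow_zero, one_mul, mul_inv_rev, mul_assoc]
      _ = w := by rw [h.pow d hd]; group
  have sw : ∀ a ∈ Q, ∀ b ∈ Q, bb a b = 1 → a * b = u * (b * a) := fun a ha b hb e => by
    rw [← hm.comm_eq p2 hD hX ha hb (bb_eq_one.1 e), commutatorElement_def]; group
  have wv := mul_mem hw vQ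
  have vt := mul_mem vQ tQ
  have rQ := mul_mem hw vt
  have cu := hX.cent
  have s2 : ∀ a ∈ Q, ∀ b ∈ Q, a * a = 1 → b * b = 1 → bb a b = 1 → a * b * (a * b) = u :=
    fun a ha b hb a2 b2 e => by
      nth_rewrite 1 [sw a ha b hb e]
      rw [mul_assoc, mul_assoc, ← mul_assoc a, a2, one_mul, b2, mul_one]
  have r0 : bb (v * t) w = 0 := by rw [add v vQ t tQ w hw, bb_symm, b1, bb_symm, b2]; rfl
  have r2 : w * (v * t) * (w * (v * t)) = u := by
    rw [mul_assoc, ← mul_assoc (v * t), bb_eq_zero.1 r0, mul_assoc w, ← mul_assoc w, w2, one_mul,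
      s2 v vQ t tQ v2 t2 b3]
  have rD : w * (v * t) ∈ centralizer (D : Set G) := by
    have hcard := card_of_relIndex hE
    rw [hi] at hcard
    rw [← PG.sup_zpowers_eq_of_card_eq_prime_mul Nat.prime_three hE hcard hd dE]
    refine (le_centralizer_iff (H := zpowers _)).2 (sup_le ?_ ?_) (mem_zpowers _) <;>
      rw [zpowers_le, zpowers_eq_closure, centralizer_closure, mem_centralizer_singleton_iff]
    · exact (xw.mul_right (xv.mul_right xt)).eq
    · rw [← mul_inv_eq_iff_eq_mul, ← conj_mul, ← conj_mul, ← hv, ← ht, dt, ← mul_assoc,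
        bb_eq_zero.1 r0]
  generalize w * (v * t) = r at rQ r2 rD
  have cc : ∀ c ∈ Q, c ∈ centralizer (D : Set G) → ∀ s ∈ ⁅Q, D⁆, bb s c = 0 := fun c c1 c2 s hs =>
    bb_eq_zero.2 (mem_centralizer_singleton_iff.1 (hm.comm_cent p2 hD hX le_rfl c1 c2 hs))
  obtain ⟨q, q1, b4⟩ : ∃ q ∈ Q ⊓ centralizer (D : Set G), bb q r = 1 := by
    by_contra! hc
    have : Q ≤ centralizer {r} := by
      rw [← commutator_sup_centralizer (hm.norm p2 hD hX) (hm.cop p2 hD hX le_rfl le_rfl)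
        (Or.inl (by have := h.comm; infer_instance))]
      exact sup_le (hm.comm_cent p2 hD hX le_rfl rQ rD) fun q hq =>
        mem_centralizer_singleton_iff.2 (by_contra fun e => hc q hq (bb_eq_one.2 e))
    exact h.ne (r2.symm.trans (hQ.mul_self_of_mem (hQ.cent (mem_centralizer_iff.2 fun q hq =>
      mem_centralizer_singleton_iff.1 (this hq)))))
  have ne1 : ∀ s, ∀ t ∈ Q, bb s t = 1 → s ≠ 1 ∧ s ≠ u := fun s t ht hb =>
    ⟨fun e => bb_eq_one.mp hb (by simp [e]), fun e => bb_eq_one.mp hb (e ▸ (cu t ht).symm)⟩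
  have q2 : q * q = u := (hm.sq_or p2 hD hX q1.1).resolve_left fun e =>
    hm.no_four p2 hD e (ne1 q r rQ b4).1 (ne1 q r rQ b4).2 (cu q q1.1).symm
      (mem_centralizer_iff.1 q1.2)
  have m1 : w * v ∈ ⁅Q, D⁆ := by
    have := commutator_mem_commutator hw hd
    rwa [commutatorElement_def, inv_eq_of_mul_eq_one_right w2, mul_assoc, mul_assoc,
      ← mul_assoc d, ← hv] at this
  have m2 : v * t ∈ ⁅Q, D⁆ := by
    have := commutator_mem_commutator vQ hd
    rwa [commutatorElement_def, inv_eq_of_mul_eq_one_right v2, mul_assoc, mul_assoc,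
      ← mul_assoc d, ← ht] at this
  have b5 : bb (w * v) (v * t) = 1 := by
    rw [add w hw v vQ _ vt, bb_symm, r0, bb_symm, add v vQ t tQ v vQ, bb_self, bb_symm, b3]; rfl
  have c1 := cc r rQ rD _ m1
  have c2 := cc r rQ rD _ m2
  have c3 := cc q q1.1 q1.2 _ m1
  have c4 := cc q q1.1 q1.2 _ m2
  have a2 := s2 w hw v vQ w2 v2 b1
  have a3 := s2 v vQ t tQ v2 t2 b3
  have xa := xw.mul_right xv
  have xb := xv.mul_right xt
  generalize w * v = a at wv b5 c1 c3 a2 xa
  generalize v * t = b at vt b5 c2 c4 a3 xb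
  have sq2 : ∀ s t : G, s * s = u → t * t = u → bb s t = 0 → s * t * (s * t) = 1 :=
    fun s t hs ht hb => by
      calc _ = s * (t * s) * t := by group
        _ = s * s * (t * t) := by rw [← bb_eq_zero.mp hb]; group
        _ = 1 := by rw [hs, ht, h.sq]
  have ar := mul_mem wv rQ
  have bq := mul_mem vt q1.1
  have k1 : bb (a * r) q = 1 := by rw [add a wv r rQ q q1.1, c3, bb_symm, b4]; rfl
  have k2 : bb (b * q) r = 1 := by rw [add b vt q q1.1 r rQ, c2, b4]; rfl
  have k3 : bb (a * r * (b * q)) r = 1 := by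
    rw [add _ ar _ bq r rQ, k2, add a wv r rQ r rQ, c1, bb_self]; rfl
  have k4 : bb (a * r) (b * q) = 0 := by
    rw [add a wv r rQ _ bq, bb_symm r, k2, bb_symm, add b vt q q1.1 a wv, bb_symm, b5, bb_symm,
      c3]; rfl
  obtain ⟨F, c, h1, h3, -⟩ := pair_of_eight p2 hD (zpowers_ne_bot_three ho)
    (pair_zpowers ho h.sq h.ne (mem_centralizer_singleton_iff.1 hx)) (sq2 _ _ a2 r2 c1)
    (sq2 _ _ a3 q2 c4) (cu _ ar).symm (cu _ bq).symm (bb_eq_zero.1 k4) (ne1 _ _ q1.1 k1).1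
    (ne1 _ _ q1.1 k1).2 (ne1 _ _ rQ k2).1 (ne1 _ _ rQ k2).2 (ne1 _ _ rQ k3).1 (ne1 _ _ rQ k3).2
    (cx (xa.mul_right (mem_centralizer_iff.1 rD x xD)))
    (cx (xb.mul_right (mem_centralizer_iff.1 q1.2 x xD)))
  have := h27 F c h1
  rw [h3, Nat.card_zpowers, ho] at this
  omega

theorem card_cases (hD : Dih 3 G) (h27 : N27 G) {D : Subgroup G} {u : G} (h : Pair 3 D u)
    (h9 : Nat.card D = 9) (hQ : PreLX (qOf u) u) :
    Nat.card (qOf u) = 2 ^ 5 ∨ Nat.card (qOf u) = 2 ^ 7 ∨ Nat.card (qOf u) = 2 ^ 9 := by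
  have := Fact.mk Nat.prime_three
  have h1 := one_invol hD h27 h h9 hQ
  have hX := crit_of_pre hQ
  have hm := maxQ_of h27 h h9
  generalize qOf u = Q at hQ hX h1
  let f : D →* MulAut Q := Q.normalizerMonoidHom.comp (inclusion (hm.norm (by norm_num) hD hX))
  have hf : ∀ (d : D) (q : Q), (f d q : G) = d * q * (d : G)⁻¹ := fun _ _ => rfl
  have fi : Function.Injective f := (injective_iff_map_eq_one f).2 fun d e =>
    Subtype.ext (hm.faith (by norm_num) hD hX d.2 (mem_centralizer_iff.2 fun q hq => by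
      have := hf d ⟨q, hq⟩
      rw [e] at this
      exact eq_mul_inv_iff_mul_eq.1 this))
  have := h.comm
  refine (Cfsg.Agent.S2934.result hX.pgrp (p := 3) (by norm_num) f.range
    ((isPGroup_of_pow h.pow).of_surjective _ f.rangeRestrict_surjective) ?_ (fun hc => ?_) ?_).2.2.1
  · refine isMulCommutative_of ?_
    rintro _ ⟨a, rfl⟩ _ ⟨b, rfl⟩
    rw [← map_mul, ← map_mul, mul_comm]
  · obtain ⟨g, hg⟩ := ((MonoidHom.ofInjective fi).isCyclic.2 hc).exists_ofOrder_eq_natCard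
    have := orderOf_le_of_pow_eq_one (x := g) three_pos (Subtype.ext (h.pow g g.2))
    omega
  · rintro _ ⟨d, rfl⟩ d1 x y x2 y2 e1 e2
    have k : ∀ x : Q, orderOf x = 2 → f d x = x → (x : G) = u := fun x x2 e =>
      (h1 d (mem_centralizer_singleton_iff.2 (h.cent d d.2))
        (orderOf_eq_prime (h.pow d d.2) fun e => d1 (by rw [show d = 1 from Subtype.ext e, map_one]))
        x x.2 (congrArg Subtype.val (show x * x = 1 by rw [← sq, ← x2, pow_orderOf_eq_one]))
        (mul_inv_eq_iff_eq_mul.1 ((hf d x).symm.trans (congrArg Subtype.val e)))).resolve_left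
        fun e => by rw [show x = 1 from Subtype.ext e, orderOf_one] at x2; omega
    exact Subtype.ext ((k x x2 e1).trans (k y y2 e2).symm)

end Cfsg.Lib.Mas
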