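import Cfsg.Agent.Mas.Defs
import Cfsg.Agent.Class.HermSimple
import Cfsg.Agent.Class.OrthEich
import Cfsg.Agent.Class.StdForms
import Cfsg.Agent.Class.FieldIso
import Cfsg.Agent.S0303
import Cfsg.Agent.S1719
import Cfsg.Agent.S2136
import Cfsg.Agent.S5389

/-!
# Groups of characteristic 2 and 3 type: elementary abelian groups of order 27 centralizing an
involution
-/

set_option autoImplicit false

namespace Cfsg.Lib.Mas

open Subgroup Cfsg.Lib.Char.KM Matrix

namespace X2

/-- The elementary abelian group of order 27. -/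
abbrev E := Multiplicative (Fin 3 → ZMod 3)

theorem card_E : Nat.card E = 27 := by
  rw [Nat.card_eq_fintype_card]; rfl

theorem pow_E (x : E) : x ^ 3 = 1 := by revert x; decide

variable {G H : Type*} [Group G] [Group H]

theorem of_hom (h : N27 G) (φ : E →* G) (hφ : Function.Injective φ) {u : G} (u2 : u * u = 1)
    (u1 : u ≠ 1) (hc : ∀ x, φ x * u = u * φ x) : False := by
  have := h φ.range u ⟨⟨⟨by
    rintro ⟨_, x, rfl⟩ ⟨_, y, rfl⟩
    exact Subtype.ext (by simp only [coe_mul, ← map_mul, mul_comm])⟩⟩,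
    by rintro _ ⟨x, rfl⟩; rw [← map_pow, pow_E, map_one], u2, u1, by rintro _ ⟨x, rfl⟩; exact hc x⟩
  rw [← Nat.card_congr (MonoidHom.ofInjective hφ).toEquiv, card_E] at this
  omega

theorem lift [Finite G] (π : G →* H) (hs : Function.Surjective π) (hk : IsPGroup 2 π.ker)
    (φ : E →* H) (hφ : Function.Injective φ) : ∃ ψ : E →* G, Function.Injective ψ := by
  have : Fact (Nat.Prime 2) := ⟨Nat.prime_two⟩
  have : Fact (Nat.Prime 3) := ⟨Nat.prime_three⟩
  let e := MonoidHom.ofInjective hφ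
  let π' := π.subgroupComap φ.range
  have hs' : Function.Surjective π' := π.subgroupComap_surjective_of_surjective _ hs
  have h3 : IsPGroup 3 φ.range := fun x => ⟨1, by
    rw [← e.apply_symm_apply x, ← map_pow, pow_one, pow_E, map_one]⟩
  obtain ⟨P⟩ : Nonempty (Sylow 3 (φ.range.comap π)) := inferInstance
  have ht : (P : Subgroup _).map π' = ⊤ :=
    ((P.mapSurjective hs').is_maximal' (h3.to_subgroup ⊤) le_top).symm
  have hb : Function.Bijective (π'.comp (P : Subgroup _).subtype) := by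
    refine ⟨(injective_iff_map_eq_one _).2 fun x hx => ?_, fun y => ?_⟩
    · have h1 : ((x : φ.range.comap π) : G) ∈ π.ker := congrArg Subtype.val hx
      have h2 : ((x : φ.range.comap π) : G) ∈ (P : Subgroup _).map (φ.range.comap π).subtype :=
        ⟨x, x.2, rfl⟩
      exact Subtype.ext (Subtype.ext (disjoint_def.1
        (IsPGroup.disjoint_of_ne 2 3 (by decide) _ _ hk (P.isPGroup'.map _)) h1 h2))
    · obtain ⟨x, hx, rfl⟩ : y ∈ (P : Subgroup _).map π' := ht ▸ mem_top y
      exact ⟨⟨x, hx⟩, rfl⟩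
  exact ⟨((φ.range.comap π).subtype.comp (P : Subgroup _).subtype).comp
    ((MulEquiv.ofBijective _ hb).symm.toMonoidHom.comp e.toMonoidHom),
    (Subtype.val_injective.comp Subtype.val_injective).comp
      ((MulEquiv.ofBijective _ hb).symm.injective.comp e.injective)⟩

theorem of_cent [Finite H] (h : N27 G) (e : G ≃* H) {t : H} (ht : orderOf t = 2)
    {Q : Subgroup (centralizer ({t} : Set H))} [Q.Normal] (hQ : IsPGroup 2 Q) {K : Type*} [Group K]
    (f : centralizer ({t} : Set H) ⧸ Q ≃* K) (φ : E →* K) (hφ : Function.Injective φ) : False := by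
  obtain ⟨ψ, hψ⟩ := lift (QuotientGroup.mk' Q) (QuotientGroup.mk'_surjective Q)
    (by rwa [QuotientGroup.ker_mk']) (f.symm.toMonoidHom.comp φ) (f.symm.injective.comp hφ)
  refine of_hom h (e.symm.toMonoidHom.comp ((Subgroup.subtype _).comp ψ))
    (e.symm.injective.comp (Subtype.val_injective.comp hψ)) (u := e.symm t) ?_ ?_ fun x => ?_
  · rw [← map_mul, ← pow_two, ← ht, pow_orderOf_eq_one, map_one]
  · intro k
    rw [(map_eq_one_iff _ e.symm.injective).1 k, orderOf_one] at ht
    omega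
  · exact (map_mul e.symm _ _).symm.trans ((congrArg e.symm
      (mem_centralizer_singleton_iff.1 (ψ x).2)).trans (map_mul e.symm _ _))

/-- The powers of an element of order three of `SL₂(2)`. -/
def r (t : ZMod 3) : Fin 4 → ZMod 2 :=
  if t = 0 then ![1, 0, 0, 1] else if t = 1 then ![0, 1, 1, 1] else ![1, 1, 1, 0]

/-- Block matrices. -/
def bl (x : Fin 3 → ZMod 3) : Matrix (Fin 3 ⊕ Fin 3) (Fin 3 ⊕ Fin 3) (ZMod 2) :=
  fromBlocks (diagonal fun i => r (x i) 0) (diagonal fun i => r (x i) 1)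
    (diagonal fun i => r (x i) 2) (diagonal fun i => r (x i) 3)

theorem bl_mul (x y : Fin 3 → ZMod 3) : bl (x + y) = bl x * bl y := by
  have : ∀ s t : ZMod 3, r (s + t) 0 = r s 0 * r t 0 + r s 1 * r t 2 ∧
      r (s + t) 1 = r s 0 * r t 1 + r s 1 * r t 3 ∧ r (s + t) 2 = r s 2 * r t 0 + r s 3 * r t 2 ∧
      r (s + t) 3 = r s 2 * r t 1 + r s 3 * r t 3 := by decide
  simp only [bl, fromBlocks_multiply, diagonal_mul_diagonal, diagonal_add, Pi.add_apply, this]

theorem bl_mem (x : Fin 3 → ZMod 3) : bl x ∈ symplecticGroup (Fin 3) (ZMod 2) := by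
  rw [SymplecticGroup.mem_iff]
  revert x; decide +kernel

theorem sp6 : ∃ φ : E →* symplecticGroup (Fin 3) (ZMod 2), Function.Injective φ := by
  refine ⟨MonoidHom.mk' (fun x => ⟨bl x.toAdd, bl_mem _⟩) fun x y => Subtype.ext (bl_mul _ _),
    (injective_iff_map_eq_one _).2 fun x hx => ?_⟩
  have h1 : bl x.toAdd = 1 := congrArg Subtype.val hx
  revert h1 x; intro x _; revert x; decide +kernel

theorem an : ∀ z₁ z₂ : ZMod 2, z₁ ^ 2 + 1 * z₁ * z₂ + 1 * z₂ ^ 2 = 0 → z₁ = 0 ∧ z₂ = 0 := by decide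

section Unit

variable {F : Type} [Field F] [Fintype F]

theorem exists_w (hF : Fintype.card F = 4) : ∃ w : ZMod 3 → F, w 0 = 1 ∧
    (∀ s t, w (s + t) = w s * w t) ∧ Function.Injective w := by
  classical
  obtain ⟨g, hg⟩ := IsCyclic.exists_ofOrder_eq_natCard (α := Fˣ)
  rw [Nat.card_units, Nat.card_eq_fintype_card, hF] at hg
  have h3 : orderOf (g : F) = 3 := by rw [orderOf_units, hg]
  refine ⟨fun t => (g : F) ^ t.val, pow_zero _, fun s t => ?_, fun s t e => ?_⟩
  · have := pow_mod_orderOf (g : F) (s.val + t.val)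
    rw [h3] at this
    simp only [← pow_add, ZMod.val_add, this]
  · exact ZMod.val_injective 3 (pow_injOn_Iio_orderOf (s.val_lt.trans_eq h3.symm)
      (t.val_lt.trans_eq h3.symm) e)

theorem exists_dg (hF : Fintype.card F = 4) {m : ℕ} (hm : 2 ≤ m)
    (e : (Fin 3 → ZMod 3) →+ (Fin m → ZMod 3)) (h0 : ∀ x, ∑ i, e x i = 0)
    (hi : ∀ x, (∀ i j, e x i = e x j) → x = 0) :
    ∃ (w : ZMod 3 → F) (ψ : E →* SU m F 2), (∀ x, ((ψ x : SpecialLinearGroup (Fin m) F) :
      Matrix (Fin m) (Fin m) F) = diagonal fun i => w (e x.toAdd i)) ∧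
      Function.Injective ((QuotientGroup.mk' (center (SU m F 2))).comp ψ) := by
  obtain ⟨w, w0, wa, wi⟩ := exists_w hF
  have hp : ∀ (x : Fin m → ZMod 3) (s : Finset (Fin m)), ∏ i ∈ s, w (x i) = w (∑ i ∈ s, x i) :=
    fun x s => by
      induction s using Finset.induction_on with
      | empty => simp [w0]
      | insert a s ha ih => rw [Finset.prod_insert ha, Finset.sum_insert ha, wa, ih]
  have w3 : ∀ t, w t * w t ^ 2 = 1 := fun t => by
    rw [pow_two, ← wa, ← wa, ← w0]; congr 1; revert t; decide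
  refine ⟨w, MonoidHom.mk' (fun x => ⟨⟨diagonal fun i => w (e x.toAdd i), by
    rw [det_diagonal, hp, h0, w0]⟩, fun u v => Finset.sum_congr rfl fun i _ => ?_⟩)
    fun x y => Subtype.ext (Subtype.ext ?_), fun _ => rfl,
    (injective_iff_map_eq_one _).2 fun x hx => ?_⟩
  · change (diagonal _ *ᵥ u) i * (diagonal _ *ᵥ v) i ^ 2 = _
    rw [mulVec_diagonal, mulVec_diagonal, mul_pow]
    linear_combination u i * v i ^ 2 * w3 (e x.toAdd i)
  · change diagonal _ = diagonal _ * diagonal _
    simp only [diagonal_mul_diagonal, toAdd_mul, map_add, Pi.add_apply, wa]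
  · obtain ⟨a, ha⟩ := (Class.Form.mem_center_SU_iff (q := 2) hF m hm _).1
      ((QuotientGroup.eq_one_iff _).1 hx)
    have : ∀ i, w (e x.toAdd i) = a := fun i => by
      have := congrFun (congrFun ha i) i
      simpa using this
    exact hi x.toAdd fun i j => wi (by rw [this, this])

theorem psu4 (hF : Fintype.card F = 4) : ∃ φ : E →* PSU 4 F 2, Function.Injective φ := by
  obtain ⟨_, ψ, -, h⟩ := exists_dg hF (m := 4) (by omega)
    (AddMonoidHom.mk' (fun x => ![x 0, x 1, x 2, -(x 0 + x 1 + x 2)]) fun x y => by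
      funext i; fin_cases i <;> simp [add_comm, add_left_comm, add_assoc])
    (fun x => by simp [Fin.sum_univ_four]) (by decide)
  exact ⟨_, h⟩

end Unit

end X2

set_option linter.unusedSectionVars false
set_option linter.unusedVariables false

variable {G : Type*} [Group G] [Finite G]

theorem not_PSU (h : N27 G) (F : Type) [Field F] [Fintype F] (hF : Fintype.card F = 4) {m : ℕ}
    (hm : 5 ≤ m) : ¬ Nonempty (G ≃* PSU m F 2) := by
  rintro ⟨e⟩
  obtain ⟨n, rfl⟩ : ∃ n, m = n + 5 := ⟨m - 5, by omega⟩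
  obtain ⟨w, ψ, hψ, hi⟩ := X2.exists_dg hF (m := n + 5) (by omega)
    (AddMonoidHom.mk' (fun x => vecCons (x 0) (vecCons (x 0) (vecCons (x 1) (vecCons (x 2)
      (vecCons (-(x 0 + x 0 + x 1 + x 2)) 0))))) fun x y => by
        simp only [cons_add_cons, Pi.add_apply, add_zero]; congr 5; ring)
    (fun x => by simp [Fin.sum_univ_succ]) (fun x k => by
      have k1 : x 0 = x 1 := k 0 (Fin.succ (Fin.succ 0))
      have k2 : x 0 = x 2 := k 0 (Fin.succ (Fin.succ (Fin.succ 0)))
      have k3 : x 0 = -(x 0 + x 0 + x 1 + x 2) := k 0 (Fin.succ (Fin.succ (Fin.succ (Fin.succ 0))))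
      clear k
      revert x; decide)
  have h2 : (-1 : F) = 1 := by
    have := FiniteField.pow_card_sub_one_eq_one (-1 : F) (by simp)
    rw [hF] at this
    linear_combination this
  have n01 : (0 : Fin (n + 5)) ≠ Fin.succ 0 := (Fin.succ_ne_zero _).symm
  let u : SU (n + 5) F 2 := ⟨⟨swap F 0 (Fin.succ 0), by
    rw [swap, det_permutation, Equiv.Perm.sign_swap n01]; simpa using h2⟩, fun a b => by
      change ∑ i, (swap F _ _ *ᵥ a) i * (swap F _ _ *ᵥ b) i ^ 2 = _
      simp only [swap_mulVec]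
      exact Equiv.sum_comp (Equiv.swap _ _) fun i => a i * b i ^ 2⟩
  refine X2.of_hom h (e.symm.toMonoidHom.comp _) (e.symm.injective.comp hi) (u := e.symm u) ?_ ?_
    fun x => ?_
  · rw [← map_mul, ← QuotientGroup.mk_mul, show u * u = 1 from
      Subtype.ext (Subtype.ext (swap_mul_self _ _)), QuotientGroup.mk_one, map_one]
  · intro k
    obtain ⟨a, ha⟩ := (Class.Form.mem_center_SU_iff (q := 2) hF _ (by omega) _).1
      ((QuotientGroup.eq_one_iff _).1 ((map_eq_one_iff _ e.symm.injective).1 k))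
    have := congrFun (congrFun ha 0) (Fin.succ 0)
    simp [u, swap, n01] at this
  · have : ψ x * u = u * ψ x := by
      refine Subtype.ext (Subtype.ext ?_)
      change (ψ x).1.1 * swap F 0 (Fin.succ 0) = swap F 0 (Fin.succ 0) * (ψ x).1.1
      rw [show (ψ x).1.1 = _ from hψ x, ext_iff_mulVec]
      intro v
      funext i
      simp only [← mulVec_mulVec, swap_mulVec, Function.comp_apply, mulVec_diagonal]
      congr 2
      rw [Equiv.swap_apply_def]
      split_ifs with c c'
      · rw [c]; rfl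
      · rw [c']; rfl
      · rfl
    change e.symm _ * _ = _ * e.symm _
    rw [← map_mul, ← map_mul]
    exact congrArg (fun t => e.symm (QuotientGroup.mk t)) this

theorem not_Co2 (h : N27 G) : ¬ Spor.IsoCo2 G := by
  rintro ⟨e⟩
  have : Finite Spor.Co2 := Finite.of_equiv _ e.toEquiv
  obtain ⟨t, ht, -, -, ⟨f⟩⟩ := Agent.S2136.result
  obtain ⟨φ, hφ⟩ := X2.sp6
  exact X2.of_cent h e ht (Solv.pCore_isPGroup 2 _) f φ hφ

theorem not_Suz (h : N27 G) (h' : N38 G) : ¬ Spor.IsoSuz G := by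
  rintro ⟨e⟩
  obtain ⟨A, -, _, S, _, _, -, -, -, z, hz, Q, _, hF, hQ, hc, ⟨f⟩, hn⟩ := Agent.S5389.result
  obtain ⟨e'⟩ := Agent.S1719.result z hz Q hF hQ hc f hn
  have : Fact (Nat.Prime 2) := ⟨Nat.prime_two⟩
  have := Fintype.ofFinite (GaloisField 2 2)
  have h4 : Fintype.card (GaloisField 2 2) = 4 := by
    rw [← Nat.card_eq_fintype_card, GaloisField.card 2 2 (by decide)]; rfl
  have an := X2.an
  obtain ⟨g⟩ := Agent.S0303.result (ZMod.card 2) h4 1 1 an
  have hZ : center (Omega (ZMod 2) (quadFormMinus 2 (ZMod 2) 1 1)) = ⊥ := by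
    rw [← Class.coe_quadMinus, ← card_eq_one, Nat.card_congr (centerCongr
      (Class.Orth.omegaEquiv _)).toEquiv, Class.Orth.center_commutator_eq_bot
      (Class.quadMinus_nondegenerate 2 an) (Class.Orth.not_exc_of_finrank (by simp)) (by simp)
      (Or.inl rfl), card_bot]
  obtain ⟨φ, hφ⟩ := X2.psu4 h4
  exact X2.of_cent h (e.trans e'.symm) hz (IsPGroup.of_card hc)
    (f.trans ((Class.quotCenterEquivOfEqBot hZ).symm.trans g)) φ hφ

end Cfsg.Lib.Mas
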