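import Cfsg.Agent.Mas.Defs
import Cfsg.Agent.Recog.L43Defs
import Cfsg.Agent.Class.FieldIso
import Cfsg.Agent.Local.Dihedral
import Cfsg.Agent.Solv.CardModEq
import Cfsg.Agent.FT.PLength
import Cfsg.Agent.S0243

/-!
# `L₄(3)` is not of characteristic two type
-/

set_option autoImplicit false

namespace Cfsg.Lib.Mas

open Subgroup Cfsg.Lib.Char.KM Cfsg.Lib.Local
open scoped commutatorElement

namespace XL43

theorem d8 : ∀ y : DihedralGroup 4, y = 1 ∨ y = .r 2 ∨ y * y = .r 2 ∨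
    .r 1 * y * (.r 1)⁻¹ * y⁻¹ = .r 2 := by decide

theorem key {N : Type*} [Group N] [Finite N] (R : Subgroup N) [hn : R.Normal] (hR : IsPGroup 2 R)
    (h8 : ¬ 2 ^ 8 ∣ Nat.card N) {t x a b w : N} (ht : t ∈ R) (t1 : t ≠ 1) (hx : x ^ 5 = 1)
    (xt : x * t = t * x) (b2 : b * b = 1) (ba : b * a * (b * a) = 1) (a4 : a ^ 4 = 1)
    (hw : w = a * a * (x * (a * a) * x ^ 4)) (w3 : w ^ 3 = 1) (w1 : w ≠ 1) :
    x ∈ centralizer (R : Set N) := by
  have : Fact (Nat.Prime 5) := ⟨by norm_num⟩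
  have xi : x ^ 4 = x⁻¹ := eq_inv_of_mul_eq_one_left (by rw [← pow_succ, hx])
  have hc : a * a ∉ R := fun h => by
    obtain ⟨k, hk⟩ := hR ⟨w, by rw [hw, xi]; exact mul_mem h (hn.conj_mem _ h x)⟩
    have e : w ^ 2 ^ k = 1 := congrArg Subtype.val hk
    exact w1 (by simpa [(Nat.Coprime.pow_left k (by norm_num : Nat.Coprime 2 3)).gcd_eq_one] using
      pow_gcd_eq_one.2 ⟨e, w3⟩)
  have ba' : b * a * b⁻¹ = a⁻¹ := by
    rw [inv_eq_of_mul_eq_one_right b2]
    exact eq_inv_of_mul_eq_one_left (by rw [mul_assoc, ba])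
  let δ : DihedralGroup 4 →* N ⧸ R := (QuotientGroup.mk' R).comp (dihedralHom b2 ba' a4)
  have h2 : (.r 2 : DihedralGroup 4) ∉ δ.ker := fun h => hc (by
    have := dihedralHom_r b2 ba' a4 2
    rw [zpow_two] at this
    exact this ▸ (QuotientGroup.eq_one_iff _).1 h)
  have hδ : Function.Injective δ := (injective_iff_map_eq_one δ).2 fun y hy => by
    have hy' : y ∈ δ.ker := hy
    rcases d8 y with e | e | e | e
    · exact e
    · exact absurd (e ▸ hy') h2
    · exact absurd (e ▸ mul_mem hy' hy') h2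
    · exact absurd (e ▸ mul_mem (δ.normal_ker.conj_mem _ hy' _) (inv_mem hy')) h2
  have h3 := card_dvd_of_injective δ hδ
  rw [DihedralGroup.nat_card] at h3
  obtain ⟨k, hk⟩ := hR.exists_card_eq
  have h4 : k ≤ 4 := by
    by_contra h
    refine h8 ?_
    rw [card_eq_card_quotient_mul_card_subgroup R, hk, show 2 ^ 8 = 2 * 4 * 2 ^ 5 by norm_num]
    exact Nat.mul_dvd_mul h3 (pow_dvd_pow 2 (by omega))
  have hx5 : IsPGroup 5 (zpowers x) := by
    rintro ⟨_, n, rfl⟩
    exact ⟨1, Subtype.ext (by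
      change (x ^ n) ^ 5 ^ 1 = 1
      rw [pow_one, ← zpow_natCast, ← zpow_mul, mul_comm, zpow_mul, zpow_natCast, hx, one_zpow])⟩
  have h5 := Solv.card_modEq_card_inf_centralizer (L := R) hx5 le_normalizer_of_normal
  obtain ⟨j, hj⟩ := (hR.to_le (inf_le_left (b := centralizer (zpowers x : Set N)))).exists_card_eq
  have hle := card_le_of_le (inf_le_left (a := R) (b := centralizer (zpowers x : Set N)))
  have j0 : j ≠ 0 := by
    rintro rfl
    have : t ∈ R ⊓ centralizer (zpowers x : Set N) := ⟨ht, by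
      rintro _ ⟨n, rfl⟩
      exact (Commute.zpow_left xt n).eq⟩
    rw [card_eq_one.1 hj] at this
    exact t1 this
  have e : R ⊓ centralizer (zpowers x : Set N) = R := eq_of_le_of_card_ge inf_le_left (by
    rw [hj, hk] at h5 hle ⊢
    have := (Nat.pow_le_pow_iff_right (by norm_num)).1 hle
    have : j ≤ 4 := by omega
    interval_cases k <;> interval_cases j <;> simp_all [Nat.ModEq])
  exact fun r hr => ((e.ge hr).2 x (mem_zpowers x)).symm

open L43

/-- A square root of `-1`. -/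
def mJ : Γ := mk 0 1 0 0 2 0 0 0 0 0 0 1 0 0 2 0 (by decide)
/-- An element of order five. -/
def mx : Γ := mk 0 0 0 1 0 0 2 0 0 1 1 1 2 0 2 1 (by decide)
/-- An element of order eight. -/
def ma : Γ := mk 0 0 0 1 0 0 2 0 0 1 0 1 2 0 2 0 (by decide)
/-- An element of order four. -/
def mb : Γ := mk 0 0 1 0 0 0 0 1 2 0 0 0 0 2 0 0 (by decide)
/-- An element of order three. -/
def mw : Γ := ma * ma * (mx * (ma * ma) * (mx * mx * mx * mx))

theorem facts : mJ * mJ = ng ∧ mx * mJ = mJ * mx ∧ ma * mJ = mJ * ma ∧ mb * mJ = mJ * mb ∧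
    mx * mx * mx * mx * mx = 1 ∧ mb * mb = ng ∧ mb * ma * (mb * ma) = ng ∧
    ma * ma * ma * ma = ng ∧ mw * mw * mw = 1 ∧ t0 * mJ ≠ mJ * t0 ∧ t0 * mx ≠ mx * t0 ∧
    t0 * mw ≠ mw * t0 := by decide +kernel

end XL43

open XL43 L43 in
theorem not_L43 {G : Type*} [Group G] [Finite G] (h : LocChar 2 G) (F : Type) [Field F] [Fintype F]
    (hF : Fintype.card F = 3) :
    ¬ Nonempty (G ≃* Matrix.ProjectiveSpecialLinearGroup (Fin 4) F) := by
  rintro ⟨e⟩
  obtain ⟨f⟩ := Class.nonempty_ringEquiv_zmod Nat.prime_three hF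
  have hc := Agent.S0243.result hF 4 (by norm_num)
  simp [Fin.prod_univ_succ] at hc
  have hG : Nat.card G = 6065280 := by rw [Nat.card_congr e.toEquiv]; omega
  let e' := (e.trans (Class.pslEquiv (Fin 4) f)).symm
  let π : Γ →* G := e'.toMonoidHom.comp (QuotientGroup.mk' (center Γ))
  have hπ : ∀ A, π A = 1 ↔ A ∈ center Γ := fun A =>
    (map_eq_one_iff e' e'.injective).trans (QuotientGroup.eq_one_iff A)
  have hg : π ng = 1 := (hπ _).2 (mem_center_iff.2 fun g => (ng_comm g).symm)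
  have hne : ∀ {A}, t0 * A ≠ A * t0 → π A ≠ 1 := fun n e => n (mem_center_iff.1 ((hπ _).1 e) t0)
  obtain ⟨f1, f2, f3, f4, f5, f6, f7, f8, f9, f10, f11, f12⟩ := facts
  have o2 : orderOf (π mJ) = 2 := orderOf_eq_prime (by rw [sq, ← map_mul, f1, hg]) (hne f10)
  have hT : IsPGroup 2 (zpowers (π mJ)) := IsPGroup.of_card (n := 1) (by rw [Nat.card_zpowers, o2]; rfl)
  have m : ∀ {A}, A * mJ = mJ * A → π A ∈ normalizer (zpowers (π mJ) : Set G) := fun e =>
    centralizer_le_normalizer _ (by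
      rintro _ ⟨n, rfl⟩
      exact (Commute.zpow_left (by rw [Commute, SemiconjBy, ← map_mul, ← map_mul, e]) n).eq)
  have hx := key (pCore 2 (normalizer (zpowers (π mJ) : Set G))) FT.pl_isPGroup_pCore
    (fun d => absurd (hG ▸ d.trans (card_subgroup_dvd_card _)) (by norm_num))
    (t := ⟨_, m rfl⟩) (x := ⟨_, m f2⟩) (a := ⟨_, m f3⟩) (b := ⟨_, m f4⟩)
    (FT.pl_le_pCore ((zpowers (π mJ)).subgroupOf _) (Trans.isPGroup_subgroupOf hT _)
      (mem_zpowers _))
    (fun e => hne f10 (congrArg Subtype.val e))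
    (Subtype.ext (by simp [pow_succ, ← map_mul, f5]))
    (Subtype.ext (by simp [← map_mul, f2])) (Subtype.ext (by simp [← map_mul, f6, hg]))
    (Subtype.ext (by simp [← map_mul, f7, hg])) (Subtype.ext (by simp [pow_succ, ← map_mul, f8, hg]))
    rfl (Subtype.ext (by simpa [pow_succ, ← map_mul, mw] using congrArg π f9))
    (fun e => hne f12 (by simpa [pow_succ, ← map_mul, mw] using congrArg Subtype.val e))
  obtain ⟨k, hk⟩ := FT.pl_isPGroup_pCore ⟨_, h _ hT (by simpa using hne f10) hx⟩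
  have e1 : π mx ^ 2 ^ k = 1 := congrArg (fun y => y.1.1) hk
  have e2 : π mx ^ 5 = 1 := by simp [pow_succ, ← map_mul, f5]
  exact hne f11 (by
    simpa [(Nat.Coprime.pow_left k (by norm_num : Nat.Coprime 2 5)).gcd_eq_one] using
      pow_gcd_eq_one.2 ⟨e1, e2⟩)

end Cfsg.Lib.Mas
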