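import Cfsg.Agent.Mas.St
import Cfsg.Agent.S1480
import Cfsg.Agent.GW.LiftC

/-!
# Groups of characteristic 2 and 3 type: transitivity, the subgroup `U`, and the `A₄` lemma
-/

set_option autoImplicit false

namespace Cfsg.Lib.Mas

open Subgroup Cfsg.Lib.Char.KM Cfsg.Lib.Trans Cfsg.Lib.Solv
open scoped commutatorElement Pointwise

variable {G : Type*} [Group G] [Finite G] {P : Sylow 3 G} {B : Subgroup G}

namespace Z0

omit [Finite G] in
theorem scn_comm {S A : Subgroup G} (h : IsSCN S A) {x y : G} (hx : x ∈ A) (hy : y ∈ A) :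
    x * y = y * x := by
  have : y ∈ S ⊓ centralizer (A : Set G) := by rw [h.2.2]; exact hy
  exact mem_centralizer_iff.1 this.2 x hx

omit [Finite G] in
theorem norm_cent (A : Subgroup G) :
    normalizer (A : Set G) ≤ normalizer ((centralizer (A : Set G) : Subgroup G) : Set G) := by
  have key : ∀ g ∈ normalizer (A : Set G), ∀ x ∈ centralizer (A : Set G),
      g * x * g⁻¹ ∈ centralizer (A : Set G) := fun g hg x hx =>
    mem_centralizer_iff.2 fun y hy => by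
      have hy' : g⁻¹ * y * g⁻¹⁻¹ ∈ A := (mem_normalizer_iff.1 (inv_mem hg) y).1 hy
      have := mem_centralizer_iff.1 hx _ hy'
      calc y * (g * x * g⁻¹) = g * (g⁻¹ * y * g⁻¹⁻¹ * x) * g⁻¹ := by group
        _ = g * (x * (g⁻¹ * y * g⁻¹⁻¹)) * g⁻¹ := by rw [this]
        _ = _ := by group
  intro g hg
  rw [mem_normalizer_iff]
  refine fun x => ⟨key g hg x, fun hx => ?_⟩
  have := key _ (inv_mem hg) _ hx
  simpa [mul_assoc] using this

theorem full {p : ℕ} [Fact p.Prime] {S : Sylow p G} {A : Subgroup G}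
    (h : IsSCN (S : Subgroup G) A) :
    ∀ x ∈ centralizer (A : Set G), IsPGroup p (zpowers x) → x ∈ A := by
  intro x hx hp
  have h1 := (isSylowIn_of_le S h.2.1).inf_normal_of_le (norm_cent A) (centralizer_le_normalizer _)
  rw [h.2.2] at h1
  obtain ⟨y, hy, hle⟩ := h1.exists_cj_le hp (zpowers_le.2 hx)
  have h2 : y * x * y⁻¹ ∈ A := hle (conj_mem_cj.2 (mem_zpowers x))
  have h3 := mem_centralizer_iff.1 hy _ h2
  have : x = y * x * y⁻¹ := by
    calc x = y⁻¹ * (y * x * y⁻¹ * y) := by group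
      _ = y⁻¹ * (y * (y * x * y⁻¹)) := by rw [h3]
      _ = _ := by group
  rw [this]; exact h2

omit [Finite G] in
theorem mem_zp3 {z x : G} (hz : orderOf z = 3) (hx : x ∈ zpowers z) :
    x = 1 ∨ x = z ∨ x = z⁻¹ := by
  have h3 : z ^ 3 = 1 := by rw [← hz, pow_orderOf_eq_one]
  obtain ⟨n, rfl⟩ := hx
  have h : z ^ n = z ^ (n % 3) := by
    conv_lhs => rw [← Int.emod_add_mul_ediv n 3, zpow_add, zpow_mul]
    have : z ^ (3 : ℤ) = 1 := by exact_mod_cast h3
    rw [this, one_zpow, mul_one]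
  have h' : n % 3 = 0 ∨ n % 3 = 1 ∨ n % 3 = 2 := by omega
  simp only
  rw [h]
  rcases h' with e | e | e <;> rw [e]
  · left; simp
  · right; left; simp
  · right; right
    rw [eq_inv_iff_mul_eq_one, ← h3, zpow_two, pow_succ, pow_two]

/-- The elements of order dividing `p` of an abelian subgroup of rank at least three. -/
theorem exists_omega {p : ℕ} {A : Subgroup G} (hc : ∀ x ∈ A, ∀ y ∈ A, x * y = y * x)
    (hr : ¬ PRankLE p 2 A) : ∃ W : Subgroup G, (∀ x, x ∈ W ↔ x ∈ A ∧ x ^ p = 1) ∧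
      p ^ 2 < Nat.card W := by
  let W : Subgroup G :=
    { carrier := {x | x ∈ A ∧ x ^ p = 1}
      one_mem' := ⟨one_mem _, one_pow _⟩
      mul_mem' := fun {a b} ha hb => ⟨mul_mem ha.1 hb.1, by
        rw [Commute.mul_pow (hc a ha.1 b hb.1), ha.2, hb.2, one_mul]⟩
      inv_mem' := fun {a} ha => ⟨inv_mem ha.1, by rw [inv_pow, ha.2, inv_one]⟩ }
  refine ⟨W, fun _ => Iff.rfl, ?_⟩
  obtain ⟨E, -, hE2, hE3⟩ : ∃ E : Subgroup A, IsMulCommutative E ∧ (∀ a ∈ E, a ^ p = 1) ∧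
      p ^ 2 < Nat.card E := by
    by_contra hcon
    push Not at hcon
    exact hr hcon
  refine hE3.trans_le ?_
  rw [← card_map_of_injective A.subtype_injective]
  refine Trans.card_le_of_le ?_
  rintro _ ⟨a, ha, rfl⟩
  exact ⟨a.2, congrArg Subtype.val (hE2 a ha)⟩

end Z0

open Z0

theorem H3.inv_B (h : H3 P B) {X : Subgroup G} (hX : IsPGroup 2 X)
    (hB : B ≤ normalizer (X : Set G)) : X = ⊥ := by
  have : Fact (Nat.Prime 2) := ⟨Nat.prime_two⟩
  have : Fact (Nat.Prime 3) := ⟨Nat.prime_three⟩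
  have hpi : ∀ Y : Subgroup G, IsPiSubgroup {2} Y ↔ IsPGroup 2 Y := fun Y => by
    constructor
    · intro hY
      rw [IsPGroup.iff_card]
      exact ⟨_, Nat.eq_prime_pow_of_unique_prime_dvd Nat.card_pos.ne'
        fun hq hd => hY _ hq hd⟩
    · intro hY q hq hd
      obtain ⟨n, hn⟩ := IsPGroup.iff_card.1 hY
      rw [hn] at hd
      exact (Nat.prime_dvd_prime_iff_eq hq Nat.prime_two).1 (hq.dvd_of_dvd_pow hd)
  obtain ⟨Y, hY, hXY⟩ := FT.max_normed_exists ((hpi X).2 hX) hB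
  have key := Agent.S1480.result 3 h.con (by omega) B (P.isPGroup'.to_le h.scn.1)
    (isMulCommutative_of fun x hx y hy => scn_comm h.scn hx hy) h.rk (full h.scn) 2 (by omega)
  have hPK : (P : Subgroup G) ≤ normalizer
      (piCoreOf (primesNotDvd 3) (centralizer (B : Set G)) : Set G) :=
    (h.scn.2.1.trans (norm_cent B)).trans (FT.norm_pcore _ _)
  have hcop : (Nat.card (P : Subgroup G)).Coprime
      (Nat.card (piCoreOf (primesNotDvd 3) (centralizer (B : Set G)))) := by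
    obtain ⟨n, hn⟩ := IsPGroup.iff_card.1 P.isPGroup'
    rw [hn]
    refine Nat.Coprime.pow_left _ ((Nat.Prime.coprime_iff_not_dvd Nat.prime_three).2 fun hd => ?_)
    exact (FT.pcore_pgroup _ _ 3 Nat.prime_three hd).2 dvd_rfl
  obtain ⟨k, hk, hn⟩ := Coprime.exists_conj_invariant hPK hcop
    (Or.inl (Coprime.isSolvable_of_isPGroup P.isPGroup')) (P := Y) fun a ha => by
      obtain ⟨k, hk, e⟩ := key Y hY _ (FT.norm_acts_max_norm (h.scn.2.1 ha) hY)
      exact ⟨k, hk, e.symm⟩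
  have h1 := h.inv _ ((hpi _).1 (FT.mem_max_normed (FT.cent_core_acts_max_norm hk hY)).1) hn
  have h2 : Nat.card Y = 1 := by rw [← Coprime.card_conj_smul Y k, h1, card_bot]
  rw [card_eq_one] at h2
  exact le_bot_iff.1 (h2 ▸ hXY)

theorem H3.exists_U (h : H3 P B) : ∃ z u : G, z ∈ B ∧ u ∈ B ∧ orderOf z = 3 ∧ orderOf u = 3 ∧
    u ∉ zpowers z ∧ (∀ p ∈ (P : Subgroup G), p * z = z * p) ∧
    ∀ p ∈ (P : Subgroup G), p * u * p⁻¹ = u ∨ p * u * p⁻¹ = u * z ∨ p * u * p⁻¹ = u * z⁻¹ := by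
  have : Fact (Nat.Prime 3) := ⟨Nat.prime_three⟩
  obtain ⟨W, hW, hc⟩ := exists_omega (fun x hx y hy => scn_comm h.scn hx hy) h.rk
  have hWp : IsPGroup 3 W := isPGroup_of_pow fun d hd => ((hW d).1 hd).2
  have hPW : (P : Subgroup G) ≤ normalizer (W : Set G) := le_normalizer_of_conj fun g hg x hx =>
    (hW _).2 ⟨(mem_normalizer_iff.1 (h.scn.2.1 hg) x).1 ((hW x).1 hx).1, by
      rw [conj_pow, ((hW x).1 hx).2]; group⟩
  have hW1 : W ≠ ⊥ := fun e => by rw [e, card_bot] at hc; omega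
  obtain ⟨z, hzW, hzP, -, hz⟩ := PG.exists_mem_centralizer_orderOf_eq P.isPGroup' hWp hPW hW1
  have hzc : ∀ p ∈ (P : Subgroup G), p * z = z * p := mem_centralizer_iff.1 hzP
  have hPz : (P : Subgroup G) ≤ normalizer (zpowers z : Set G) :=
    le_normalizer_of_conj fun g hg x hx => by
      obtain ⟨n, rfl⟩ := hx
      simp only
      rw [← conj_zpow, hzc g hg, mul_inv_cancel_right]
      exact zpow_mem (mem_zpowers z) n
  have hlt : zpowers z < W := lt_of_le_of_ne (zpowers_le.2 hzW) fun e => by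
    rw [← e, Nat.card_zpowers, hz] at hc; omega
  obtain ⟨u, huW, hu, -, -, hus⟩ := PG.exists_step_elt P.isPGroup' hWp hPz hPW hlt
  have hu1 : u ≠ 1 := fun e => hu (e ▸ one_mem _)
  have hzB := ((hW z).1 hzW).1
  have huB := ((hW u).1 huW).1
  refine ⟨z, u, hzB, huB, hz, orderOf_eq_prime ((hW u).1 huW).2 hu1, hu, hzc, fun p hp => ?_⟩
  have e : p * u * p⁻¹ = ⁅u, p⁆⁻¹ * u := by simp only [commutatorElement_def]; group
  rw [e]
  rcases mem_zp3 hz (inv_mem (hus p (mem_sup_left hp))) with e' | e' | e' <;> rw [e']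
  · left; rw [one_mul]
  · right; left; exact scn_comm h.scn hzB huB
  · right; right; exact scn_comm h.scn (inv_mem hzB) huB

theorem a4_cent {X : Subgroup G} (hX : IsPGroup 3 X) {z w : G} (hz : z ∈ normalizer (X : Set G))
    (hw : w ∈ normalizer (X : Set G)) (w2 : w * w = 1) (w1 : w ≠ 1)
    (hc : w * (z * w * z⁻¹) = z * w * z⁻¹ * w)
    (h3 : w * (z * w * z⁻¹) * (z * (z * w * z⁻¹) * z⁻¹) = 1)
    (hi : (centralizer ({z} : Set G)).relIndex X ≤ 3) : ∀ x ∈ X, w * x = x * w := by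
  have : Fact (Nat.Prime 3) := ⟨Nat.prime_three⟩
  set v := z * w * z⁻¹ with hv
  have v2 : v * v = 1 := by
    calc v * v = z * (w * w) * z⁻¹ := by rw [hv]; group
      _ = 1 := by rw [w2]; group
  have v1 : v ≠ 1 := fun e => w1 (by
    calc w = z⁻¹ * v * z := by rw [hv]; group
      _ = 1 := by rw [e]; group)
  have hwv : z * v * z⁻¹ = w * v := by
    have e : w * v * (w * v) = 1 := by
      calc w * v * (w * v) = w * (v * w) * v := by group
        _ = (w * w) * (v * v) := by rw [← hc]; group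
        _ = 1 := by rw [w2, v2, one_mul]
    exact mul_left_cancel (h3.trans e.symm)
  have hne : w ≠ v := fun e => by
    have e' : z * v * z⁻¹ = v := by nth_rewrite 1 [← e]; rfl
    rw [hwv] at e'
    exact w1 (mul_right_cancel (e'.trans (one_mul v).symm))
  have hvn : v ∈ normalizer (X : Set G) := mul_mem (mul_mem hz hw) (inv_mem hz)
  have ho : Odd (Nat.card X) := by
    obtain ⟨n, hn⟩ := IsPGroup.iff_card.1 hX
    rw [hn]; exact Odd.pow (by decide)
  have hbw := GW.LiftB.brauer_wielandt ho ⟨w2, v2, hc.symm, w1, v1, hne⟩ hw hvn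
  have hcj : ∀ g ∈ normalizer (X : Set G), ∀ t : G, cj g (X ⊓ Ngrp.C1 t) =
      X ⊓ Ngrp.C1 (g * t * g⁻¹) := fun g hg t => by
    rw [cj_inf, Ngrp.cj_C1, cj_eq_of_mem_normalizer hg]
  have e1 : Nat.card (X ⊓ Ngrp.C1 v : Subgroup G) = Nat.card (X ⊓ Ngrp.C1 w : Subgroup G) := by
    rw [← hcj z hz, card_cj]
  have e2 : Nat.card (X ⊓ Ngrp.C1 (w * v) : Subgroup G) =
      Nat.card (X ⊓ Ngrp.C1 w : Subgroup G) := by
    rw [← hwv, ← hcj z hz, card_cj, e1]
  change Nat.card X * Nat.card (X ⊓ Ngrp.C1 w ⊓ Ngrp.C1 v : Subgroup G) ^ 2 =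
    Nat.card (X ⊓ Ngrp.C1 w : Subgroup G) * Nat.card (X ⊓ Ngrp.C1 v : Subgroup G) *
      Nat.card (X ⊓ Ngrp.C1 (w * v) : Subgroup G) at hbw
  rw [e1, e2] at hbw
  have hi' : (Ngrp.C1 (w * z * w⁻¹)).relIndex X ≤ 3 := by
    have a1 := card_mul_relIndex (inf_le_left : X ⊓ Ngrp.C1 z ≤ X)
    have a2 := card_mul_relIndex (inf_le_left : X ⊓ Ngrp.C1 (w * z * w⁻¹) ≤ X)
    rw [inf_relIndex_left] at a1 a2
    rw [← hcj w hw, card_cj, ← a1] at a2
    rw [Nat.eq_of_mul_eq_mul_left Nat.card_pos a2]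
    exact hi
  have hle : Ngrp.C1 z ⊓ Ngrp.C1 (w * z * w⁻¹) ≤ Ngrp.C1 w ⊓ Ngrp.C1 v := by
    rintro y ⟨hy1, hy2⟩
    have c1 : Commute y z := Ngrp.mem_C1.1 hy1
    have c2 : Commute y (w * z * w⁻¹) := Ngrp.mem_C1.1 hy2
    have a1 : w * z * w⁻¹ * z⁻¹ = w * v := by
      rw [hv, inv_eq_of_mul_eq_one_right w2]; group
    have c3 : Commute y (w * v) := a1 ▸ c2.mul_right c1.inv_right
    have a2 : z⁻¹ * (w * v) * z = v := by rw [← hwv]; group
    have c4 : Commute y v := a2 ▸ (c1.inv_right.mul_right c3).mul_right c1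
    have a3 : z⁻¹ * v * z = w := by rw [hv]; group
    have c5 : Commute y w := a3 ▸ (c1.inv_right.mul_right c4).mul_right c1
    exact ⟨Ngrp.mem_C1.2 c5, Ngrp.mem_C1.2 c4⟩
  have h9 : (Ngrp.C1 w ⊓ Ngrp.C1 v).relIndex X ≤ 9 :=
    calc _ ≤ (Ngrp.C1 z ⊓ Ngrp.C1 (w * z * w⁻¹)).relIndex X :=
          relIndex_le_of_le_left hle FiniteIndex.index_ne_zero
      _ ≤ _ := relIndex_inf_le
      _ ≤ 3 * 3 := Nat.mul_le_mul hi hi'
  have a1 := card_mul_relIndex (inf_le_left : X ⊓ (Ngrp.C1 w ⊓ Ngrp.C1 v) ≤ X)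
  rw [inf_relIndex_left, ← inf_assoc] at a1
  obtain ⟨r, hr⟩ := card_dvd_of_le (inf_le_left : X ⊓ Ngrp.C1 w ⊓ Ngrp.C1 v ≤ X ⊓ Ngrp.C1 w)
  have hro : Odd r := by
    have : Odd (Nat.card (X ⊓ Ngrp.C1 w : Subgroup G)) :=
      Odd.of_dvd_nat ho (card_dvd_of_le inf_le_left)
    rw [hr] at this
    exact (Nat.odd_mul.1 this).2
  have hd : 0 < Nat.card (X ⊓ Ngrp.C1 w ⊓ Ngrp.C1 v : Subgroup G) := Nat.card_pos
  have hs : (Ngrp.C1 w ⊓ Ngrp.C1 v).relIndex X = r ^ 3 := by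
    rw [← a1, hr] at hbw
    refine Nat.eq_of_mul_eq_mul_left (pow_pos hd 3) ?_
    calc _ = _ := by ring
      _ = _ := hbw
      _ = _ := by ring
  have hr1 : r = 1 := by
    by_contra hr1
    have : 3 ≤ r := by obtain ⟨k, rfl⟩ := hro; omega
    have := Nat.pow_le_pow_left this 3
    omega
  rw [hr1, one_pow, relIndex_eq_one] at hs
  exact fun x hx => (Ngrp.mem_C1.1 (hs hx).1).symm

end Cfsg.Lib.Mas
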