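import Cfsg.Agent.Mas.Z2a
import Cfsg.Agent.Mas.Z0
import Cfsg.Agent.Rank2.Engel
import Cfsg.Agent.FT.BG4.Elem

/-!
# Groups of characteristic 2 and 3 type: every element of order 3 is good
-/

set_option autoImplicit false

namespace Cfsg.Lib.Mas

open Subgroup Cfsg.Lib.Char.KM Cfsg.Lib.Trans Cfsg.Lib.Solv Cfsg.Lib.Ngrp

variable {G : Type*} [Group G] [Finite G] {P : Sylow 3 G} {B : Subgroup G}

namespace Z2

theorem last (hc : IsPConstrained 3 G) (ho : Odd (Nat.card (pPrimeCore 3 G))) {Q : Subgroup G}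
    (hQ : IsPGroup 3 Q) (hi : ∀ S : Subgroup G, IsPGroup 3 S → Nat.card S ≤ 3 * Nat.card Q) {z w : G}
    (hz : Q ≤ C1 z) (w2 : w * w = 1) (w1 : w ≠ 1) (h2 : w * (z * w * z⁻¹) = z * w * z⁻¹ * w)
    (h3 : w * (z * w * z⁻¹) * (z * (z * w * z⁻¹) * z⁻¹) = 1) : False := by
  let f := QuotientGroup.mk' (pPrimeCore 3 G)
  obtain ⟨S, hS⟩ := hQ.exists_le_sylow
  have hw : f w ≠ 1 := fun e => by
    have := orderOf_dvd_natCard (⟨w, (QuotientGroup.eq_one_iff w).1 e⟩ : pPrimeCore 3 G)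
    rw [← orderOf_coe, orderOf_eq_prime (p := 2) (by rw [sq, w2]) w1] at this
    exact absurd (ho.of_dvd_nat this) (by decide)
  have hf : f w * f w = 1 := by rw [← map_mul, w2, map_one]
  have h1 := a4_cent (pCore_isPGroup 3 _) (z := f z) (w := f w) (le_normalizer_of_normal (mem_top _))
    (le_normalizer_of_normal (mem_top _)) hf hw (by simpa using congrArg f h2)
    (by simpa using congrArg f h3) (by
      refine (relIndex_le_of_le_right (pCore_le_sylow (S.mapSurjective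
        (QuotientGroup.mk'_surjective _))) FiniteIndex.index_ne_zero).trans ?_
      rw [Sylow.coe_mapSurjective, ← relIndex_comap]
      refine (relIndex_le_of_le_left (H := Q) (fun q hq => mem_comap.2 (mem_C1.2 ?_))
        FiniteIndex.index_ne_zero).trans ?_
      · rw [← map_mul, ← map_mul, mem_C1.1 (hz hq)]
      · have := hi _ S.isPGroup'
        rw [← card_mul_relIndex hS, mul_comm] at this
        exact Nat.le_of_mul_le_mul_right this Nat.card_pos)
  obtain ⟨k, hk⟩ := pCore_isPGroup 3 _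
    ⟨_, isPConstrained_iff_quotient.1 hc fun x hx => (h1 x hx).symm⟩
  exact hw (eq_one_of_inv (p := 3) (by norm_num) (congrArg Subtype.val hk) hf)

omit [Finite G] in
theorem commB (h : H3 P B) {a b : G} (ha : a ∈ B) (hb : b ∈ B) : a * b = b * a :=
  (h.scn.2.2.ge hb).2 a ha

theorem goodB (h : H3 P B) {b : G} (hb : b ∈ B) : Good b :=
  good_of (P.isPGroup'.to_le h.scn.1) (fun _ hc => C1_le b (mem_C1.2 (commB h hc hb)))
    fun _ hX hN _ => h.inv_B hX hN

variable {z u y : G}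

theorem big (h : H3 P B) (hz : z ∈ B) (hu : u ∈ B) (z3 : orderOf z = 3) (u3 : u ^ 3 = 1)
    (uz : u ∉ zpowers z) (hc : ∀ p ∈ (P : Subgroup G), p * z = z * p)
    (hi : (C1 u).relIndex P ≤ 3) : Big G := fun E hE => by
  obtain ⟨g, -, hg⟩ := (isSylowIn_top P).exists_cj_le hE le_top
  obtain ⟨h1, h2⟩ := e9 z3 u3 (commB h hu hz) uz
  refine ⟨E ⊓ cj g⁻¹ (C1 u), inf_le_left, ?_, fun f hf f3 => ?_⟩
  · rw [← card_mul_relIndex (inf_le_left : E ⊓ cj g⁻¹ (C1 u) ≤ E), mul_comm, inf_relIndex_left,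
      ← relIndex_cj g, cj_cj_inv]
    exact Nat.mul_le_mul_right _ ((relIndex_le_of_le_right hg FiniteIndex.index_ne_zero).trans hi)
  · have := conj (gen h h1 (by omega) (fun _ k _ => goodB h
      (sup_le (zpowers_le.2 hz) (zpowers_le.2 hu) k)) (y := g * f * g⁻¹)
      (((MulAut.conj g).orderOf_eq f).trans f3) (sup_le
        (zpowers_le.2 (mem_C1.2 (hc _ (hg (conj_mem_cj.2 hf.1))).symm))
        (zpowers_le.2 (mem_C1.2 (mem_C1.1 (mem_cj_inv.1 hf.2)).symm)))) g⁻¹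
    simpa [mul_assoc] using this

theorem mem3 {x : G} (h : orderOf z = 3) (hx : x ∈ zpowers z) : ∃ i : ZMod 3, x = z ^ i.val := by
  obtain ⟨n, rfl⟩ := (mem_powers_iff_mem_zpowers).2 hx
  exact ⟨n, by rw [ZMod.val_natCast, ← h, pow_mod_orderOf]⟩

/-- The bad configuration. -/
theorem st (h : H3 P B) (h2 : LocChar 2 G) (bg : Big G) (hz : z ∈ B) (z3 : orderOf z = 3)
    (u3 : u ^ 3 = 1) (uz : u * z = z * u) (y3 : orderOf y = 3) (yz : y * z = z * y)
    (hn : ¬ Good y) (uy : u * y * u⁻¹ = y * z) :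
    St (zpowers z ⊔ zpowers y) (ppCoreOf 3 (normalizer (zpowers z ⊔ zpowers y : Subgroup G))) z u
      fun i => y * z ^ i.val := by
  have gz := goodB h hz
  have z1 : z ≠ 1 := by rintro rfl; simp at z3
  have zz : z ^ 3 = 1 := z3 ▸ pow_orderOf_eq_one z
  have yy : y ^ 3 = 1 := y3 ▸ pow_orderOf_eq_one y
  have c : Commute y z := yz
  have cu : Commute u z := uz
  obtain ⟨hA, h9⟩ := e9 z3 yy yz (by
    rintro ⟨n, rfl⟩
    rw [(cu.zpow_right n).eq, mul_inv_cancel_right, left_eq_mul] at uy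
    exact z1 uy)
  have zA : z ∈ zpowers z ⊔ zpowers y := mem_sup_left (mem_zpowers z)
  have yA : y ∈ zpowers z ⊔ zpowers y := mem_sup_right (mem_zpowers y)
  have cs : ∀ x ∈ zpowers z ⊔ zpowers y, ∃ i j : ZMod 3, x = y ^ j.val * z ^ i.val := fun x hx => by
    obtain ⟨a, ha, b, hb, rfl⟩ := (Solv.mem_sup_of_le_normalizer
      (zpowers_le.2 (C1_le z (mem_C1.2 yz)))).1 hx
    obtain ⟨i, rfl⟩ := mem3 z3 ha
    obtain ⟨j, rfl⟩ := mem3 y3 hb
    exact ⟨i, j, (c.pow_pow _ _).symm⟩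
  have uA : u ∈ normalizer ((zpowers z ⊔ zpowers y : Subgroup G) : Set G) :=
    mem_normalizer_of_cj_le (by
      rw [cj_sup, cj_zpowers, cj_zpowers, uy, uz, mul_inv_cancel_right]
      exact sup_le le_sup_left (zpowers_le.2 (mul_mem yA zA)))
  generalize zpowers z ⊔ zpowers y = A at hA h9 zA yA cs uA ⊢
  have A3 := isPGroup_of_pow hA.2
  have cA : ∀ a ∈ A, A ≤ C1 a := fun a ha b hb => mem_C1.2 (comm_of_mem hA.1 hb ha)
  have aA : ∀ i : ZMod 3, y * z ^ i.val ∈ A := fun i => mul_mem yA (pow_mem zA _)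
  have cj : ∀ n : ℕ, y * z ^ n = u ^ n * y * (u ^ n)⁻¹ := fun n => by
    induction n with
    | zero => simp
    | succ n ih =>
      rw [pow_succ' u, show u * u ^ n * y * (u * u ^ n)⁻¹ = u * (u ^ n * y * (u ^ n)⁻¹) * u⁻¹ by
        group, ← ih, ← conj_mul, uy, (cu.pow_right n).eq, mul_inv_cancel_right, pow_succ', mul_assoc]
  have a3 : ∀ i : ZMod 3, orderOf (y * z ^ i.val) = 3 := fun i => by
    rw [cj]; exact ((MulAut.conj _).orderOf_eq y).trans y3
  have sc : ∀ i : ZMod 3, z ^ (i + 1).val = z ^ i.val * z := fun i => by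
    rw [← pow_succ, pow_eq_pow_iff_modEq, z3]; revert i; decide
  have cp : ∀ f ∈ A, orderOf f = 3 → ∀ X : Subgroup G, IsPGroup 2 X → A ≤ normalizer (X : Set G) →
      X ≤ C1 f → X ≤ th3 f := fun f hf f3 X hX hN hle =>
    cap h bg hA h9 yA y3 hn (con h f3) ((cA f hf).trans (C1_le f)) (hle.trans (C1_le f)) (cop2 hX) hN
  refine ⟨h2, hA.1, zA, aA, fun i => by rw [sc, mul_assoc], z3, a3, fun x hx => ?_,
    ncyc hA (by omega), u3, uz, fun i => ?_, pp_le A3, coprime_ppCoreOf _ _,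
    le_normalizer_ppCoreOf _ _ uA, fun K hK K3 => ?_, fun X hX hN x hx e => ?_, fun i => ?_,
    fun i k t k3 ka t2 t1 tk ta => ?_, ?_⟩
  · obtain ⟨i, j, rfl⟩ := cs x hx
    clear hx
    have z2 : z ^ 2 = z⁻¹ := eq_inv_of_mul_eq_one_left (by rw [← pow_succ, zz])
    obtain rfl | rfl | rfl : j = 0 ∨ j = 1 ∨ j = 2 := by revert j; decide
    · obtain rfl | rfl | rfl : i = 0 ∨ i = 1 ∨ i = 2 := by revert i; decide
      · simp
      · exact Or.inr (Or.inl (by rw [ZMod.val_zero, pow_zero, one_mul]; exact pow_one z))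
      · exact Or.inr (Or.inr (Or.inl (by rw [ZMod.val_zero, pow_zero, one_mul]; exact z2)))
    · exact Or.inr (Or.inr (Or.inr ⟨i, Or.inl (congrArg (· * _) (pow_one y))⟩))
    · refine Or.inr (Or.inr (Or.inr ⟨-i, Or.inr (eq_inv_of_mul_eq_one_left ?_)⟩))
      rw [(c.pow_right _).symm.mul_mul_mul_comm, ← pow_succ, ← pow_add, show ZMod.val (2 : ZMod 3) + 1 = 3
        from rfl, yy, one_mul, ← orderOf_dvd_iff_pow_eq_one, z3]
      revert i; decide
  · rw [← conj_mul, uy, (cu.pow_right _).eq, mul_inv_cancel_right, sc, mul_assoc, ← pow_succ, pow_succ']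
  · exact cap h bg hA h9 yA y3 hn (h.con A A3 (by rintro rfl; simp at h9)) le_normalizer
      (hK.trans (centralizer_le_normalizer _)) K3
      ((le_centralizer_iff.1 hK).trans (centralizer_le_normalizer _))
  · have := bot gz (hX.to_le inf_le_left) (cp z zA z3 (X ⊓ C1 z) (hX.to_le inf_le_left)
      (le_normalizer_inf hN ((cA z zA).trans le_normalizer)) inf_le_right)
    exact mem_bot.1 (this ▸ ⟨hx, mem_C1.2 e.symm⟩)
  · exact ⟨th3 _, coprime_ppCoreOf _ _, ((cA _ (aA i)).trans (C1_le _)).trans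
      (le_normalizer_ppCoreOf _ _), cp _ (aA i) (a3 i)⟩
  · by_contra hk
    obtain ⟨h1, h3⟩ := e9 (a3 i) (k3 ▸ pow_orderOf_eq_one k) ka hk
    obtain ⟨F, hF, h4, h5⟩ := bg _ (isPGroup_of_pow h1.2)
    obtain ⟨⟨f, hf⟩, f1⟩ := ne_bot_iff_exists_ne_one.1 (show F ≠ ⊥ by rintro rfl; simp [h3] at h4)
    have f3 := ord h1 (hF hf) fun e => f1 (Subtype.ext e)
    have hE : zpowers (y * z ^ i.val) ⊔ zpowers k ≤ C1 t :=
      sup_le (zpowers_le.2 (mem_C1.2 ta.symm)) (zpowers_le.2 (mem_C1.2 tk.symm))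
    have t2' := Local.isPGroup_zpowers_of_orderOf_eq (orderOf_eq_prime (p := 2) (by rw [sq, t2]) t1)
    refine t1 (zpowers_eq_bot.1 (bot (h5 f hf f3) t2' (cap h bg h1 h3 (mem_sup_left (mem_zpowers _))
      (a3 i) (fun e => hn ?_) (con h f3) (fun b hb => C1_le f (mem_C1.2 (comm_of_mem h1.1 hb (hF hf))))
      (zpowers_le.2 (C1_le f (mem_C1.2 (mem_C1.1 (hE (hF hf))).symm))) (cop2 t2') (hE.trans (C1_le t)))))
    simpa [cj, mul_assoc] using conj e (u ^ i.val)⁻¹
  · by_contra k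
    refine hn (good_of A3 ((cA y yA).trans (C1_le y)) fun X hX hN hle => by_contra fun e =>
      k ⟨X, hX, hN, e, ?_⟩)
    rw [ZMod.val_zero, pow_zero, mul_one, ← C1, ← centralizer_zpowers_eq]
    exact hle.trans (pp_le (Local.isPGroup_zpowers_of_orderOf_eq y3))

theorem fin (h : H3 P B) (hz : z ∈ B) (hu : u ∈ B) (z3 : orderOf z = 3) (u3 : u ^ 3 = 1)
    (uz : u ∉ zpowers z) (hc : ∀ p ∈ (P : Subgroup G), p * z = z * p)
    (hi : (C1 u).relIndex P ≤ 3) {X : Subgroup G} (hX : IsPGroup 2 X)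
    (zX : z ∈ normalizer (X : Set G)) (uX : u ∈ normalizer (X : Set G))
    (hf : ∀ x ∈ X, z * x = x * z → x = 1) : X = ⊥ := by
  by_contra X1
  obtain ⟨h1, h2⟩ := e9 z3 u3 (commB h hu hz) uz
  have := h1.1
  obtain ⟨v, hv, v1, hne⟩ := Coprime.exists_inf_centralizer_singleton_ne_bot (ncyc h1 (by omega))
    (sup_le (zpowers_le.2 zX) (zpowers_le.2 uX)) (cop (isPGroup_of_pow h1.2) (cop2 hX)) X1
  obtain ⟨w, hw, w2, -⟩ := Local.exists_central_orderOf_eq (hX.to_le inf_le_left) hne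
  have vB := sup_le (zpowers_le.2 hz) (zpowers_le.2 hu) hv
  have a3 : ∀ x : X, X.normalizerMonoidHom ⟨z, zX⟩ (X.normalizerMonoidHom ⟨z, zX⟩
      (X.normalizerMonoidHom ⟨z, zX⟩ x)) = x := fun x => Subtype.ext (by
    change z * (z * (z * x * z⁻¹) * z⁻¹) * z⁻¹ = x
    rw [show z * (z * (z * x * z⁻¹) * z⁻¹) * z⁻¹ = z * z * z * x * (z * z * z)⁻¹ by group,
      ← pow_three', ← z3, pow_orderOf_eq_one]
    simp)
  have af : ∀ x : X, X.normalizerMonoidHom ⟨z, zX⟩ x = x → x = 1 := fun x e =>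
    Subtype.ext (hf x x.2 (mul_inv_eq_iff_eq_mul.1 (congrArg Subtype.val e)))
  have PN : (P : Subgroup G) ⊓ C1 u ≤ N3 v := fun p hp => C1_le v (mem_C1.2 (mem_C1.1
    ((sup_le (zpowers_le.2 (mem_C1.2 (hc p hp.1).symm)) (zpowers_le.2 (mem_C1.2
      (mem_C1.1 hp.2).symm)) : _ ≤ C1 p) hv)).symm)
  refine last (con h (ord h1 hv v1)) (by simpa only [Good, card_map_subtype] using goodB h vB)
    (isPGroup_subgroupOf (P.isPGroup'.to_le (inf_le_left : _ ⊓ C1 u ≤ _)) _) (fun S hS => ?_)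
    (z := ⟨z, C1_le v (mem_C1.2 (commB h hz vB))⟩) (w := ⟨w, C1_le v hw.2⟩)
    (fun p hp => mem_C1.2 (Subtype.ext (hc p hp.1)))
    (Subtype.ext (by rw [coe_mul, ← sq, ← w2]; exact pow_orderOf_eq_one w))
    (fun e => by rw [show w = 1 from congrArg Subtype.val e] at w2; simp at w2)
    (Subtype.ext (congrArg Subtype.val (Rank2.fpf_commute a3 af ⟨w, hw.1⟩) :))
    (Subtype.ext (congrArg Subtype.val (Rank2.fpf_norm a3 af ⟨w, hw.1⟩) :))
  rw [card_subgroupOf_of_le PN, ← card_map_subtype]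
  refine ((isSylowIn_top P).card_le (hS.map _) le_top).trans ?_
  rw [← card_mul_relIndex (inf_le_left : (P : Subgroup G) ⊓ C1 u ≤ P), mul_comm, inf_relIndex_left]
  exact Nat.mul_le_mul_right _ hi

end Z2

open Z2 in
theorem H3.good (h : H3 P B) (h2 : LocChar 2 G) (hS : StOut G) :
    ∀ x : G, orderOf x = 3 → Good x := by
  obtain ⟨z, u, hz, hu, z3, u3, uz, hc, hp⟩ := h.exists_U
  have uu : u ^ 3 = 1 := u3 ▸ pow_orderOf_eq_one u
  have hi : (C1 u).relIndex P ≤ 3 := by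
    refine (FT.BG4.relIndex_centralizer_le_card fun p k => ?_).trans (Nat.card_zpowers z ▸ z3).le
    rw [commutatorElement_def]
    rcases hp p k with e | e | e <;> rw [e]
    · simp
    · simp [commB h hu hz]
    · simp [commB h hu (inv_mem hz)]
  have bg := big h hz hu z3 uu uz hc hi
  have main : ∀ z ∈ B, orderOf z = 3 → u ∉ zpowers z → (∀ p ∈ (P : Subgroup G), p * z = z * p) →
      ∀ y ∈ (P : Subgroup G), orderOf y = 3 → u * y * u⁻¹ = y * z → Good y :=
    fun z hz z3 uz hc y hy y3 e => by_contra fun hn => by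
      have s := st h h2 bg hz z3 uu (commB h hu hz) y3 (hc y hy) hn e
      obtain ⟨X, hX, X1, h3, h4⟩ := hS _ _ _ _ _ s
      exact X1 (fin h hz hu z3 uu uz hc hi hX (h3 s.zA) h4 (s.fpf X hX h3))
  intro x x3
  obtain ⟨g, -, hg⟩ := (isSylowIn_top P).exists_cj_le (Local.isPGroup_zpowers_of_orderOf_eq x3) le_top
  have hy := hg (conj_mem_cj.2 (mem_zpowers x))
  have y3 : orderOf (g * x * g⁻¹) = 3 := ((MulAut.conj g).orderOf_eq x).trans x3
  suffices Good (g * x * g⁻¹) by simpa [mul_assoc] using conj this g⁻¹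
  generalize g * x * g⁻¹ = y at hy y3
  have k : ∀ c, y * u * y⁻¹ = u * c → c * y = y * c → u * c = c * u → u * y * u⁻¹ = y * c⁻¹ :=
    fun c e1 e2 e3 => by
      calc _ = c⁻¹ * (c * u) * y * u⁻¹ := by group
        _ = c⁻¹ * y := by rw [← e3, ← e1]; group
        _ = _ := (Commute.inv_left e2).eq
  rcases hp y hy with e | e | e
  · obtain ⟨h1, h3⟩ := e9 z3 uu (commB h hu hz) uz
    exact gen h h1 (by omega) (fun _ k _ => goodB h (sup_le (zpowers_le.2 hz) (zpowers_le.2 hu) k))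
      y3 (sup_le (zpowers_le.2 (mem_C1.2 (hc y hy).symm))
        (zpowers_le.2 (mem_C1.2 (mul_inv_eq_iff_eq_mul.1 e).symm)))
  · exact main z⁻¹ (inv_mem hz) (by rwa [orderOf_inv]) (by rwa [zpowers_inv])
      (fun p k => (Commute.inv_right (hc p k)).eq) y hy y3 (k z e (hc y hy).symm (commB h hu hz))
  · exact main z hz z3 uz hc y hy y3 (by
      simpa using k _ e (Commute.inv_left (hc y hy).symm).eq (commB h hu (inv_mem hz)))

end Cfsg.Lib.Mas
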