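import Cfsg.Agent.Mas.St
import Cfsg.Agent.Rank2.Fpf3
import Cfsg.Agent.Local.CharP
import Cfsg.Agent.Solv.CoprimeGen
import Cfsg.Agent.Solv.CoprimeSylow
import Cfsg.Agent.Solv.CardModEq

/-!
# The bad configuration, part 1: invariant 2-subgroups
-/

set_option autoImplicit false
set_option linter.unusedVariables false

namespace Cfsg.Lib.Mas

open Subgroup Cfsg.Lib.Char.KM Cfsg.Lib.Trans Cfsg.Lib.Local
open scoped commutatorElement IsMulCommutative

variable {G : Type*} [Group G]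

/-- An `A`-invariant 2-subgroup. -/
def Inv (A X : Subgroup G) : Prop := IsPGroup 2 X ∧ A ≤ normalizer (X : Set G)

/-- A maximal `A`-invariant 2-subgroup of `M`. -/
def Mx (A M P : Subgroup G) : Prop :=
  Inv A P ∧ P ≤ M ∧ ∀ Q : Subgroup G, Inv A Q → Q ≤ M → P ≤ Q → Q = P

/-- Conjugacy under `O ⊓ M`. -/
def Cj (O M P Q : Subgroup G) : Prop := ∃ c ∈ O, c ∈ M ∧ cj c P = Q

/-- The subgroup generated by `x` and its conjugate under `z`. -/
def Fx (z x : G) : Subgroup G := closure {x, z * x * z⁻¹}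

/-- The elements of `X` commuting with `b`. -/
abbrev Ty (b : G) (X : Subgroup G) : Subgroup G := X ⊓ centralizer ({b} : Set G)

/-- The centre of `X`. -/
abbrev Zc (X : Subgroup G) : Subgroup G := X ⊓ centralizer (X : Set G)

theorem mem_Ty {b x : G} {X : Subgroup G} : x ∈ Ty b X ↔ x ∈ X ∧ x * b = b * x := by
  rw [mem_inf, mem_centralizer_singleton_iff]

theorem Inv.of_le {A X Y : Subgroup G} (hX : Inv A X) (h : Y ≤ X)
    (hn : A ≤ normalizer (Y : Set G)) : Inv A Y := ⟨hX.1.to_le h, hn⟩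

theorem Inv.inf {A X K : Subgroup G} (hX : Inv A X) (hn : A ≤ normalizer (K : Set G)) :
    Inv A (X ⊓ K) := hX.of_le inf_le_left (Solv.le_normalizer_inf hX.2 hn)

theorem Inv.zc {A X : Subgroup G} (hX : Inv A X) : Inv A (Zc X) :=
  hX.inf (Solv.le_normalizer_centralizer hX.2)

theorem Inv.sup {A X Y : Subgroup G} (hX : Inv A X) (hY : Inv A Y)
    (h : X ≤ normalizer (Y : Set G)) : Inv A (X ⊔ Y) :=
  ⟨isPGroup_sup hX.1 hY.1 h, Solv.le_normalizer_sup hX.2 hY.2⟩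

theorem Inv.cj {A X : Subgroup G} (hX : Inv A X) {g : G} (hg : g ∈ normalizer (A : Set G)) :
    Inv A (cj g X) := by
  refine ⟨isPGroup_cj hX.1 g, ?_⟩
  rw [← cj_normalizer]
  calc A = Trans.cj g A := (cj_eq_of_mem_normalizer hg).symm
    _ ≤ _ := cj_mono g hX.2

theorem Mx.cj {A M P : Subgroup G} (hP : Mx A M P) {g : G} (hg : g ∈ normalizer (A : Set G)) :
    Mx A (cj g M) (cj g P) := by
  refine ⟨hP.1.cj hg, cj_mono g hP.2.1, fun Q hQ hQM hPQ => ?_⟩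
  have := hP.2.2 (Trans.cj g⁻¹ Q) (hQ.cj (inv_mem hg)) (cj_inv_le_iff_le_cj.2 hQM)
    (cj_le_iff_le_cj_inv.1 hPQ)
  rw [← this, cj_cj_inv]

theorem Cj.refl (O M P : Subgroup G) : Cj O M P P := ⟨1, one_mem _, one_mem _, cj_one P⟩

theorem Cj.symm {O M P Q : Subgroup G} (h : Cj O M P Q) : Cj O M Q P := by
  obtain ⟨c, h1, h2, rfl⟩ := h
  exact ⟨c⁻¹, inv_mem h1, inv_mem h2, cj_inv_cj c P⟩

theorem Cj.trans {O M P Q R : Subgroup G} (h : Cj O M P Q) (h' : Cj O M Q R) : Cj O M P R := by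
  obtain ⟨c, h1, h2, rfl⟩ := h
  obtain ⟨d, h3, h4, rfl⟩ := h'
  exact ⟨d * c, mul_mem h3 h1, mul_mem h4 h2, (cj_cj d c P).symm⟩

theorem exists_mx [Finite G] {A M S : Subgroup G} (hS : Inv A S) (hM : S ≤ M) :
    ∃ P, Mx A M P ∧ S ≤ P := by
  obtain ⟨P, hSP, hP⟩ := Finite.exists_le_maximal (p := fun X : Subgroup G => Inv A X ∧ X ≤ M)
    ⟨hS, hM⟩
  exact ⟨P, ⟨hP.prop.1, hP.prop.2, fun Q hQ hQM hPQ =>
    le_antisymm (hP.le_of_ge ⟨hQ, hQM⟩ hPQ) hPQ⟩, hSP⟩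

theorem mem_Fx (z x : G) : x ∈ Fx z x := subset_closure (by simp)

theorem conj_mem_Fx (z x : G) : z * x * z⁻¹ ∈ Fx z x := subset_closure (by simp)

theorem Fx_le {z x : G} {H : Subgroup G} (h1 : x ∈ H) (h2 : z * x * z⁻¹ ∈ H) : Fx z x ≤ H := by
  rw [Fx, closure_le]
  rintro y (rfl | rfl)
  exacts [h1, h2]

theorem coprime_two_three {X : Subgroup G} [Finite G] (h : IsPGroup 2 X) :
    (Nat.card X).Coprime 3 := by
  obtain ⟨n, hn⟩ := IsPGroup.iff_card.1 h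
  rw [hn]
  exact Nat.Coprime.pow_left n (by decide)

theorem zmod3_cases (i l : ZMod 3) : i = l ∨ i = l + 1 ∨ i = l + 1 + 1 := by
  revert i l; decide

namespace St

variable {A O : Subgroup G} {z u : G} {a : ZMod 3 → G} (h : St A O z u a)
include h

theorem mul_comm' {x y : G} (hx : x ∈ A) (hy : y ∈ A) : x * y = y * x := by
  have := h.comm
  exact congrArg Subtype.val (mul_comm (⟨x, hx⟩ : A) ⟨y, hy⟩)

theorem zzz : z * z * z = 1 := by
  have := pow_orderOf_eq_one z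
  rw [h.z3] at this
  rw [← this, pow_succ, pow_two]

theorem aaa (i : ZMod 3) : a i * a i * a i = 1 := by
  have := pow_orderOf_eq_one (a i)
  rw [h.a3] at this
  rw [← this, pow_succ, pow_two]

theorem a_ne (i : ZMod 3) : a i ≠ 1 := fun e => by
  have := h.a3 i
  rw [e, orderOf_one] at this
  omega

theorem gen {H : Subgroup G} {l : ZMod 3} (hz : z ∈ H) (ha : a l ∈ H) : A ≤ H := by
  have hi : ∀ i, a i ∈ H := by
    intro i
    rcases zmod3_cases i l with rfl | rfl | rfl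
    · exact ha
    · rw [h.succ]; exact mul_mem ha hz
    · rw [h.succ, h.succ]; exact mul_mem (mul_mem ha hz) hz
  intro x hx
  rcases h.cases x hx with rfl | rfl | rfl | ⟨i, rfl | rfl⟩
  exacts [one_mem _, hz, inv_mem hz, hi i, inv_mem (hi i)]

theorem pA : IsPGroup 3 A := by
  refine isPGroup_of_pow fun x hx => ?_
  have hz : z ^ 3 = 1 := by rw [← h.z3]; exact pow_orderOf_eq_one z
  have ha : ∀ i, a i ^ 3 = 1 := fun i => by rw [← h.a3 i]; exact pow_orderOf_eq_one _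
  rcases h.cases x hx with rfl | rfl | rfl | ⟨i, rfl | rfl⟩
  · simp
  · exact hz
  · rw [inv_pow, hz, inv_one]
  · exact ha i
  · rw [inv_pow, ha, inv_one]

theorem cop [Finite G] {K : Subgroup G} (hK : (Nat.card K).Coprime 3) :
    (Nat.card A).Coprime (Nat.card K) := by
  obtain ⟨n, hn⟩ := IsPGroup.iff_card.1 h.pA
  rw [hn]
  exact Nat.Coprime.pow_left n hK.symm

theorem uA [Finite G] : u ∈ normalizer (A : Set G) := by
  refine mem_normalizer_of_cj_le (cj_le_iff.2 fun t ht => ?_)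
  have : A ≤ Trans.cj u⁻¹ A := by
    refine h.gen (l := 0) (mem_cj_inv.2 ?_) (mem_cj_inv.2 ?_)
    · rw [h.uz, mul_inv_cancel_right]; exact h.zA
    · rw [h.ua]; exact h.aA _
  exact mem_cj_inv.1 (this ht)

theorem OA {c : G} (hc : c ∈ O) : c ∈ normalizer (A : Set G) :=
  centralizer_le_normalizer _ (h.Oc hc)

theorem O_comm {c x : G} (hc : c ∈ O) (hx : x ∈ A) : c * x * c⁻¹ = x :=
  conj_eq_of_mem_centralizer (h.Oc hc) hx

theorem norm_cent {b : G} (hb : b ∈ A) :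
    A ≤ normalizer (centralizer ({b} : Set G) : Set G) :=
  le_trans (fun x hx => mem_centralizer_singleton_iff.2 (h.mul_comm' hx hb)) le_normalizer

theorem inv_Ty {X : Subgroup G} (hX : Inv A X) (i : ZMod 3) : Inv A (Ty (a i) X) :=
  hX.inf (h.norm_cent (h.aA i))

theorem mx_cj {M P : Subgroup G} (hP : Mx A M P) {c : G} (hc : c ∈ O) (hM : c ∈ M) :
    Mx A M (cj c P) := by
  have := hP.cj (h.OA hc)
  rwa [cj_eq_of_mem hM] at this

theorem fpf3 {X : Subgroup G} (hX : Inv A X) :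
    Rank2.Fpf3 (X.normalizerMonoidHom ⟨z, hX.2 h.zA⟩) := by
  refine ⟨hX.1, fun x => Subtype.ext ?_, fun x hx => Subtype.ext ?_⟩
  · change z * (z * (z * x * z⁻¹) * z⁻¹) * z⁻¹ = x
    calc _ = (z * z * z) * x * (z * z * z)⁻¹ := by group
      _ = x := by rw [h.zzz]; group
  · have : z * x * z⁻¹ = x := congrArg Subtype.val hx
    exact h.fpf X hX.1 hX.2 x x.2 (mul_inv_eq_iff_eq_mul.1 this)

variable [Finite G]

theorem norm3 {X : Subgroup G} (hX : Inv A X) {x : G} (hx : x ∈ X) :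
    x * (z * x * z⁻¹) * (z * (z * x * z⁻¹) * z⁻¹) = 1 :=
  congrArg Subtype.val ((h.fpf3 hX).norm ⟨x, hx⟩)

theorem comm_z {X : Subgroup G} (hX : Inv A X) {x : G} (hx : x ∈ X) :
    x * (z * x * z⁻¹) = (z * x * z⁻¹) * x :=
  congrArg Subtype.val ((h.fpf3 hX).commute ⟨x, hx⟩).eq

theorem cls {X : Subgroup G} (hX : Inv A X) {x y : G} (hx : x ∈ X) (hy : y ∈ X) :
    ⁅x, y⁆ ∈ Zc X := by
  refine mem_inf.2 ⟨X.mul_mem (X.mul_mem (X.mul_mem hx hy) (X.inv_mem hx)) (X.inv_mem hy),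
    fun w hw => ?_⟩
  exact congrArg Subtype.val
    (mem_center_iff.1 ((h.fpf3 hX).cls ⟨x, hx⟩ ⟨y, hy⟩) ⟨w, hw⟩)

theorem swap {X : Subgroup G} (hX : Inv A X) {x y : G} (hx : x ∈ X) (hy : y ∈ X) :
    ⁅x, z * y * z⁻¹⁆ = ⁅z * x * z⁻¹, y⁆ :=
  congrArg Subtype.val ((h.fpf3 hX).comm_swap ⟨x, hx⟩ ⟨y, hy⟩)

theorem comm_right {X : Subgroup G} (hX : Inv A X) {x y : G} (hx : x ∈ X) (hy : y ∈ X)
    (hc : x * y = y * x) : x * (z * y * z⁻¹) = (z * y * z⁻¹) * x :=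
  congrArg Subtype.val ((h.fpf3 hX).commute_right (x := ⟨x, hx⟩) (y := ⟨y, hy⟩)
    (Subtype.ext hc)).eq

/-- An invariant 2-group is generated by its typed parts. -/
theorem le_of_Ty {X H : Subgroup G} (hX : Inv A X) (hH : ∀ i, Ty (a i) X ≤ H) : X ≤ H := by
  have := h.comm
  refine Solv.Coprime.le_of_forall_centralizer_singleton h.ncyc hX.2
    (h.cop (coprime_two_three hX.1)) fun b hb hb1 x hx' => ?_
  obtain ⟨hx, hc⟩ := mem_Ty.1 hx'
  clear hx'
  rcases h.cases b hb with rfl | rfl | rfl | ⟨i, rfl | rfl⟩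
  · exact absurd rfl hb1
  · rw [h.fpf X hX.1 hX.2 x hx hc.symm]; exact one_mem _
  · have : z * x = x * z := by
      have := (show Commute x z⁻¹ from hc).inv_right
      rw [inv_inv] at this
      exact this.eq.symm
    rw [h.fpf X hX.1 hX.2 x hx this]; exact one_mem _
  · exact hH i (mem_Ty.2 ⟨hx, hc⟩)
  · have := (show Commute x (a i)⁻¹ from hc).inv_right
    rw [inv_inv] at this
    exact hH i (mem_Ty.2 ⟨hx, this.eq⟩)

theorem exists_Ty {X H : Subgroup G} (hX : Inv A X) (hH : ¬ X ≤ H) :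
    ∃ i, ∃ x ∈ X, x * a i = a i * x ∧ x ∉ H := by
  by_contra hne
  push Not at hne
  exact hH (h.le_of_Ty hX fun i x hx => hne i x (mem_Ty.1 hx).1 (mem_Ty.1 hx).2)

/-- Two invariant 2-subgroups of an invariant 3′-group are conjugate into a common one. -/
theorem conj_into {K S T : Subgroup G} (hK : (Nat.card K).Coprime 3)
    (hn : A ≤ normalizer (K : Set G)) (hS : Inv A S) (hT : Inv A T) (hSK : S ≤ K) (hTK : T ≤ K) :
    ∃ c ∈ O, c ∈ K ∧ ∃ R, Inv A R ∧ R ≤ K ∧ cj c S ≤ R ∧ T ≤ R := by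
  have := h.comm
  have hs : Group.IsSolvable A ∨ Group.IsSolvable K := Or.inl inferInstance
  obtain ⟨P, h1, h2, h3, h4, h5⟩ :=
    Solv.Coprime.exists_le_invariant_sylow' hn (h.cop hK) hs hSK hS.1 hS.2
  obtain ⟨Q, k1, k2, k3, k4, k5⟩ :=
    Solv.Coprime.exists_le_invariant_sylow' hn (h.cop hK) hs hTK hT.1 hT.2
  obtain ⟨c, hc, e⟩ := Solv.Coprime.invariant_sylow_conj' hn (h.cop hK) hs h2 h3 h4 h5 k2 k3 k4 k5
  have hO : K ⊓ centralizer (A : Set G) ≤ O :=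
    h.Omax _ inf_le_right (Nat.Coprime.coprime_dvd_left (card_dvd_of_le inf_le_left) hK)
  refine ⟨c, hO hc, hc.1, Q, ⟨k3, k5⟩, k2, ?_, k1⟩
  rw [← e, conj_smul_eq_cj]
  exact cj_mono c h1

/-- The type of a commutator. -/
theorem ty_comm {X : Subgroup G} (hX : Inv A X) {x w : G} (hx : x ∈ X) (hw : w ∈ X)
    {j k : ZMod 3} (hj : x * a j = a j * x) (hk : w * a k = a k * w) :
    ⁅x, w⁆ * a (-j - k) = a (-j - k) * ⁅x, w⁆ := by
  have hz := hX.2 h.zA
  have c0 : ∀ {y : G} {i : ZMod 3}, y * a i = a i * y → a i * y * (a i)⁻¹ = y := by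
    intro y i e
    rw [← e, mul_inv_cancel_right]
  have c1 : ∀ {y : G} {i : ZMod 3}, y * a i = a i * y →
      a (i + 1) * y * (a (i + 1))⁻¹ = z * y * z⁻¹ := by
    intro y i e
    rw [h.succ, h.mul_comm' (h.aA i) h.zA]
    calc _ = z * (a i * y * (a i)⁻¹) * z⁻¹ := by group
      _ = _ := by rw [c0 e]
  have c2 : ∀ {y : G} {i : ZMod 3}, y * a i = a i * y →
      a (i + 1 + 1) * y * (a (i + 1 + 1))⁻¹ = z * (z * y * z⁻¹) * z⁻¹ := by
    intro y i e
    rw [h.succ, h.mul_comm' (h.aA _) h.zA]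
    calc _ = z * (a (i + 1) * y * (a (i + 1))⁻¹) * z⁻¹ := by group
      _ = _ := by rw [c1 e]
  have c3 : ∀ y : G, z * (z * (z * y * z⁻¹) * z⁻¹) * z⁻¹ = y := by
    intro y
    calc _ = (z * z * z) * y * (z * z * z)⁻¹ := by group
      _ = y := by rw [h.zzz]; group
  have key : a (-j - k) * ⁅x, w⁆ * (a (-j - k))⁻¹ = ⁅x, w⁆ := by
    rw [conjugate_commutatorElement]
    have hc : ∀ j k : ZMod 3, (-j - k = j ∧ -j - k = k) ∨ (-j - k = j + 1 ∧ -j - k = k + 1 + 1) ∨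
        (-j - k = j + 1 + 1 ∧ -j - k = k + 1) := by decide
    rcases hc j k with ⟨e1, e2⟩ | ⟨e1, e2⟩ | ⟨e1, e2⟩
    · rw [show a (-j - k) * x * (a (-j - k))⁻¹ = x by rw [e1]; exact c0 hj,
        show a (-j - k) * w * (a (-j - k))⁻¹ = w by rw [e2]; exact c0 hk]
    · rw [show a (-j - k) * x * (a (-j - k))⁻¹ = z * x * z⁻¹ by rw [e1]; exact c1 hj,
        show a (-j - k) * w * (a (-j - k))⁻¹ = z * (z * w * z⁻¹) * z⁻¹ by rw [e2]; exact c2 hk,
        ← h.swap hX hx (mem_normalizer_conj hz (mem_normalizer_conj hz hw)), c3]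
    · rw [show a (-j - k) * x * (a (-j - k))⁻¹ = z * (z * x * z⁻¹) * z⁻¹ by rw [e1]; exact c2 hj,
        show a (-j - k) * w * (a (-j - k))⁻¹ = z * w * z⁻¹ by rw [e2]; exact c1 hk,
        h.swap hX (mem_normalizer_conj hz (mem_normalizer_conj hz hx)) hw, c3]
  exact (mul_inv_eq_iff_eq_mul.1 key).symm

omit [Finite G] in
theorem Fx_le_of {X : Subgroup G} (hn : A ≤ normalizer (X : Set G)) {x : G} (hx : x ∈ X) :
    Fx z x ≤ X := Fx_le hx (mem_normalizer_conj (hn h.zA) hx)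

theorem z_norm_Fx {X : Subgroup G} (hX : Inv A X) {x : G} (hx : x ∈ X) :
    z ∈ normalizer (Fx z x : Set G) := by
  refine mem_normalizer_of_cj_le (cj_le_iff_le_cj_inv.2 (Fx_le ?_ ?_))
  · exact mem_cj_inv.2 (conj_mem_Fx z x)
  · refine mem_cj_inv.2 ?_
    rw [eq_inv_of_mul_eq_one_right (h.norm3 hX hx)]
    exact inv_mem (mul_mem (mem_Fx z x) (conj_mem_Fx z x))

omit [Finite G] in
theorem Fx_cent {x : G} {l : ZMod 3} (hl : x * a l = a l * x) :
    Fx z x ≤ centralizer ({a l} : Set G) :=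
  h.Fx_le_of (h.norm_cent (h.aA l)) (mem_centralizer_singleton_iff.2 hl)

theorem inv_Fx {X : Subgroup G} (hX : Inv A X) {x : G} (hx : x ∈ X) {l : ZMod 3}
    (hl : x * a l = a l * x) : Inv A (Fx z x) := by
  refine hX.of_le (h.Fx_le_of hX.2 hx) (h.gen (l := l) (h.z_norm_Fx hX hx) ?_)
  refine centralizer_le_normalizer _ fun y hy => ?_
  exact mem_centralizer_singleton_iff.1 (h.Fx_cent hl hy)

theorem mem_cent_Fx {X : Subgroup G} (hX : Inv A X) {x w : G} (hx : x ∈ X) (hw : w ∈ X)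
    (hc : w * x = x * w) : w ∈ centralizer (Fx z x : Set G) := by
  have : Fx z x ≤ centralizer ({w} : Set G) :=
    Fx_le (mem_centralizer_singleton_iff.2 hc.symm)
      (mem_centralizer_singleton_iff.2 (h.comm_right hX hw hx hc).symm)
  exact fun y hy => mem_centralizer_singleton_iff.1 (this hy)

theorem Fx_comm {X : Subgroup G} (hX : Inv A X) {x : G} (hx : x ∈ X) :
    Fx z x ≤ centralizer (Fx z x : Set G) :=
  Fx_le (h.mem_cent_Fx hX hx hx rfl)
    (h.mem_cent_Fx hX hx (mem_normalizer_conj (hX.2 h.zA) hx) (h.comm_z hX hx).symm)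

/-- Transitivity inside the centralizer of `a i`. -/
theorem trans_a (i : ZMod 3) {P Q : Subgroup G} (hP : Mx A (centralizer {a i}) P)
    (hQ : Mx A (centralizer {a i}) Q) : Cj O (centralizer {a i}) P Q := by
  obtain ⟨T, h1, h2, h3⟩ := h.theta i
  obtain ⟨c, hc, hcK, R, hR, hRK, k1, k2⟩ := h.conj_into (K := Ty (a i) T)
    (Nat.Coprime.coprime_dvd_left (card_dvd_of_le inf_le_left) h1)
    (Solv.le_normalizer_inf h2 (h.norm_cent (h.aA i))) hP.1 hQ.1
    (le_inf (h3 P hP.1.1 hP.1.2 hP.2.1) hP.2.1) (le_inf (h3 Q hQ.1.1 hQ.1.2 hQ.2.1) hQ.2.1)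
  have hRM := hRK.trans inf_le_right
  refine ⟨c, hc, hcK.2, ?_⟩
  rw [← (h.mx_cj hP hc hcK.2).2.2 R hR hRM k1, hQ.2.2 R hR hRM k2]

end St

end Cfsg.Lib.Mas
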