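import Cfsg.Agent.Mas.A1

/-!
# The bad configuration, part 2: two typed elements acting on a common normal 2-subgroup
-/

set_option autoImplicit false
set_option linter.unusedVariables false

namespace Cfsg.Lib.Mas

open Subgroup Cfsg.Lib.Char.KM Cfsg.Lib.Trans Cfsg.Lib.Local
open scoped commutatorElement IsMulCommutative

theorem ring_kappa {R : Type*} [Ring R] {m n Z α β : R} (h3 : ∀ r : R, r + r + r = 0 → r = 0)
    (hZm : Z * m = m * (Z * Z)) (hZ : 1 + Z + Z * Z = 0) (hαβ : α * β = 1)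
    (αm : α * m = m * α) (αZ : α * Z = Z * α) (αn : α * n = n * Z * α)
    (hκ : α * (m * n + n * m) = (m * n + n * m) * α) : m * n = 0 ∧ n * m = 0 := by
  have cancel : ∀ r s : R, r * α = s * α → r = s := by
    intro r s e
    calc r = r * α * β := by rw [mul_assoc, hαβ, mul_one]
      _ = s := by rw [e, mul_assoc, hαβ, mul_one]
  have e1 : m * n * Z + n * Z * m = m * n + n * m := by
    apply cancel
    rw [← hκ]
    calc (m * n * Z + n * Z * m) * α = m * (n * Z * α) + n * Z * (m * α) := by noncomm_ring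
      _ = m * (α * n) + n * Z * (α * m) := by rw [αn, αm]
      _ = (m * α) * n + (n * Z * α) * m := by noncomm_ring
      _ = (α * m) * n + (α * n) * m := by rw [αn, αm]
      _ = _ := by noncomm_ring
  have e2 : m * n * (Z * Z) + n * (Z * Z) * m = m * n + n * m := by
    apply cancel
    rw [← hκ, ← e1]
    calc (m * n * (Z * Z) + n * (Z * Z) * m) * α
        = m * n * Z * (Z * α) + n * Z * Z * (m * α) := by noncomm_ring
      _ = m * n * Z * (α * Z) + n * Z * Z * (α * m) := by rw [αZ, αm]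
      _ = m * (n * Z * α) * Z + n * Z * (Z * α) * m := by noncomm_ring
      _ = m * (α * n) * Z + n * Z * (α * Z) * m := by rw [αn, αZ]
      _ = (m * α) * n * Z + (n * Z * α) * Z * m := by noncomm_ring
      _ = (α * m) * n * Z + (α * n) * Z * m := by rw [αn, αm]
      _ = _ := by noncomm_ring
  have e0 : m * n + n * m = 0 := by
    apply h3
    calc _ = (m * n + n * m) + (m * n * Z + n * Z * m) + (m * n * (Z * Z) + n * (Z * Z) * m) := by
          rw [e1, e2]
      _ = m * n * (1 + Z + Z * Z) + n * (1 + Z + Z * Z) * m := by noncomm_ring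
      _ = 0 := by rw [hZ]; simp
  have e3 : n * m = -(m * n) := eq_neg_of_add_eq_zero_right e0
  have e4 : m * n * (Z - Z * Z) = 0 := by
    rw [e0, mul_assoc n Z m, hZm, ← mul_assoc n m, e3] at e1
    rw [← e1]; noncomm_ring
  have e5 : m * n = 0 := by
    apply h3
    have : m * n + m * n + m * n = -(m * n * (Z - Z * Z)) * (Z - Z * Z)
        + m * n * (1 + Z + Z * Z) * (Z * Z - Z - Z - Z + 1 + 1 + 1) := by noncomm_ring
    rw [this, e4, hZ]; simp
  exact ⟨e5, by rw [e3, e5, neg_zero]⟩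

theorem ring_kappa_comm {R : Type*} [Ring R] {m n Z : R} (mm : m * m = 0) (nn : n * n = 0)
    (Zm : Z * m = m * (Z * Z)) (Zn : Z * n = n * (Z * Z)) (Z3 : Z * Z * Z = 1) :
    Commute Z (m * n + n * m) ∧ Commute n (m * n + n * m) ∧ Commute m (m * n + n * m) := by
  have k : ∀ x y : R, Z * x = x * (Z * Z) → Z * y = y * (Z * Z) → Z * (x * y) = x * y * Z := by
    intro x y hx hy
    calc Z * (x * y) = x * (Z * (Z * y)) := by rw [← mul_assoc, hx]; noncomm_ring
      _ = x * ((Z * y) * (Z * Z)) := by rw [hy, ← mul_assoc Z y, hy]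
      _ = x * y * Z * (Z * Z * Z) := by rw [hy]; noncomm_ring
      _ = _ := by rw [Z3, mul_one]
  refine ⟨?_, ?_, ?_⟩
  · change _ = _
    rw [mul_add, add_mul, k m n Zm Zn, k n m Zn Zm]
  · calc n * (m * n + n * m) = n * m * n + (n * n) * m := by noncomm_ring
      _ = m * (n * n) + n * m * n := by rw [nn]; simp
      _ = _ := by noncomm_ring
  · calc m * (m * n + n * m) = m * n * m + (m * m) * n := by noncomm_ring
      _ = n * (m * m) + m * n * m := by rw [mm]; simp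
      _ = _ := by noncomm_ring

theorem ring_stab {R : Type*} [Ring R] {x y t : R} (hx : (x - 1) * t = x - 1)
    (hy : (y - 1) * t = y - 1) : (x * y - 1) * t = x * y - 1 := by
  calc (x * y - 1) * t = x * ((y - 1) * t) + (x - 1) * t := by noncomm_ring
    _ = _ := by rw [hx, hy]; noncomm_ring

theorem ring_cube {R : Type*} [Ring R] {t : R} (ht : (t - 1) * t = t - 1) (h3 : t * t * t = 1) :
    (t - 1) + (t - 1) + (t - 1) = 0 := by
  calc _ = (t - 1) + (t - 1) * t + (t - 1) * t * t := by rw [ht, ht]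
    _ = t * t * t - 1 := by noncomm_ring
    _ = 0 := by rw [h3, sub_self]

variable {G : Type*} [Group G]

/-- Conjugation action on a commutative subgroup, written additively. -/
def nEnd (V : Subgroup G) [IsMulCommutative V] :
    normalizer (V : Set G) →* AddMonoid.End (Additive V) where
  toFun g := (V.normalizerMonoidHom g).toMonoidHom.toAdditive
  map_one' := by rw [map_one]; rfl
  map_mul' g h := by rw [map_mul]; rfl

theorem nEnd_apply (V : Subgroup G) [IsMulCommutative V] (g : normalizer (V : Set G))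
    (v : Additive V) : ((nEnd V g v).toMul : G) = g * (v.toMul : G) * (g : G)⁻¹ := rfl

theorem nEnd_sub_one (V : Subgroup G) [IsMulCommutative V] (g : normalizer (V : Set G))
    (v : Additive V) : (((nEnd V g - 1) v).toMul : G) = ⁅(g : G), (v.toMul : G)⁆ := by
  have : (nEnd V g - 1) v = nEnd V g v - v := rfl
  rw [this, toMul_sub, Subgroup.coe_div, nEnd_apply, commutatorElement_def, div_eq_mul_inv]

theorem exists_sub [Finite G] {N : Subgroup G} (p : N → Prop) (h1 : p 1)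
    (hm : ∀ g k, p g → p k → p (g * k)) : ∃ H : Subgroup G, ∀ g : N, (g : G) ∈ H ↔ p g := by
  let K : Subgroup N :=
    { carrier := {g | p g}
      mul_mem' := fun {g k} hg hk => hm g k hg hk
      one_mem' := h1
      inv_mem' := fun {g} hg => by
        obtain ⟨n, hn⟩ := mem_powers_iff_mem_zpowers.2 (inv_mem (mem_zpowers g))
        have : ∀ n : ℕ, p (g ^ n) := by
          intro n
          induction n with
          | zero => rw [pow_zero]; exact h1
          | succ n ih => rw [pow_succ]; exact hm _ _ ih hg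
        have := this n
        change g ^ n = g⁻¹ at hn
        rwa [hn] at this }
  refine ⟨K.map N.subtype, fun g => ⟨?_, fun hg => ⟨g, hg, rfl⟩⟩⟩
  rintro ⟨k, hk, e⟩
  rwa [← Subtype.ext e]

theorem eq_one_of_cube {X : Subgroup G} (hX : IsPGroup 2 X) {x : G} (hx : x ∈ X)
    (h : x * x * x = 1) : x = 1 := by
  obtain ⟨n, hn⟩ := hX ⟨x, hx⟩
  have h2 : x ^ 2 ^ n = 1 := congrArg Subtype.val hn
  have h3 : x ^ 3 = 1 := by rw [pow_succ, pow_two, h]
  have := Nat.Coprime.eq_one_of_dvd (Nat.Coprime.coprime_dvd_left (orderOf_dvd_of_pow_eq_one h2)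
    (Nat.Coprime.pow_left n (by decide : Nat.Coprime 2 3))) (orderOf_dvd_of_pow_eq_one h3)
  exact orderOf_eq_one_iff.1 this

theorem zc_comm (D : Subgroup G) : IsMulCommutative (Zc D) :=
  ⟨⟨fun x y => Subtype.ext (y.2.2 x x.2.1)⟩⟩

namespace St

variable {A O : Subgroup G} {z u : G} {a : ZMod 3 → G} (h : St A O z u a) [Finite G]
include h

theorem k10 {D P Q : Subgroup G} (hP : Inv A P) (hQ : Inv A Q) (hD : Inv A D) (DP : D ≤ P)
    (DQ : D ≤ Q) (Pn : P ≤ normalizer (D : Set G)) (Qn : Q ≤ normalizer (D : Set G))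
    {w₁ w₂ : G} {i l : ZMod 3} (h1 : w₁ ∈ P) (t1 : w₁ * a i = a i * w₁) (h2 : w₂ ∈ Q)
    (t2 : w₂ * a (i + 1) = a (i + 1) * w₂) (hl : a l ∈ D ⊔ Fx z w₁ ⊔ Fx z w₂) :
    a l ∈ centralizer (D : Set G) := by
  have := zc_comm D
  have hV := hD.zc
  have nV : normalizer (D : Set G) ≤ normalizer (Zc D : Set G) :=
    Solv.le_normalizer_inf le_rfl (normalizer_le_normalizer_centralizer D)
  set N := normalizer (Zc D : Set G) with hN
  set ρ := nEnd (Zc D) with hρ
  have ext : ∀ r s : AddMonoid.End (Additive (Zc D)),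
      (∀ v, ((r v).toMul : G) = ((s v).toMul : G)) → r = s := fun r s e =>
    AddMonoidHom.ext fun v => Additive.toMul.injective (Subtype.ext (e v))
  have h3 : ∀ r : AddMonoid.End (Additive (Zc D)), r + r + r = 0 → r = 0 := by
    intro r e
    refine ext _ _ fun v => eq_one_of_cube hV.1 (r v).toMul.2 ?_
    have : (((r + r + r) v).toMul : G) = 1 := by rw [e]; rfl
    exact this
  let Z := ρ ⟨z, hV.2 h.zA⟩
  have hZ : 1 + Z + Z * Z = 0 := ext _ _ fun v => h.norm3 hV v.toMul.2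
  have gen : ∀ {S : Subgroup G} (hS : Inv A S) (DS : D ≤ S) {w : G} (hw : w ∈ S) (hwN : w ∈ N),
      (ρ ⟨w, hwN⟩ - 1) * (ρ ⟨w, hwN⟩ - 1) = 0 ∧
      Z * (ρ ⟨w, hwN⟩ - 1) = (ρ ⟨w, hwN⟩ - 1) * (Z * Z) ∧
      ∀ hw' : z * w * z⁻¹ ∈ N, ρ ⟨z * w * z⁻¹, hw'⟩ - 1 = (ρ ⟨w, hwN⟩ - 1) * Z := by
    intro S hS DS w hw hwN
    refine ⟨ext _ _ fun v => ?_, ext _ _ fun v => ?_, fun hw' => ext _ _ fun v => ?_⟩
    · change ((((ρ ⟨w, hwN⟩ - 1) ((ρ ⟨w, hwN⟩ - 1) v))).toMul : G) = 1
      rw [nEnd_sub_one, nEnd_sub_one, commutatorElement_eq_one_iff_mul_comm]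
      exact (h.cls hS hw (DS v.toMul.2.1)).2 w hw
    · change ((Z ((ρ ⟨w, hwN⟩ - 1) v)).toMul : G) = (((ρ ⟨w, hwN⟩ - 1) (Z (Z v))).toMul : G)
      rw [nEnd_apply, nEnd_sub_one, nEnd_sub_one, nEnd_apply, nEnd_apply,
        conjugate_commutatorElement]
      exact (h.swap hS hw (mem_normalizer_conj (hS.2 h.zA) (DS v.toMul.2.1))).symm
    · change _ = (((ρ ⟨w, hwN⟩ - 1) (Z v)).toMul : G)
      rw [nEnd_sub_one, nEnd_sub_one, nEnd_apply]
      exact (h.swap hS hw (DS v.toMul.2.1)).symm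
  have w1N : w₁ ∈ N := nV (Pn h1)
  have w2N : w₂ ∈ N := nV (Qn h2)
  have w1N' : z * w₁ * z⁻¹ ∈ N := nV (Pn (mem_normalizer_conj (hP.2 h.zA) h1))
  have w2N' : z * w₂ * z⁻¹ ∈ N := nV (Qn (mem_normalizer_conj (hQ.2 h.zA) h2))
  obtain ⟨nn, Zn, nZ⟩ := gen hP DP h1 w1N
  obtain ⟨mm, Zm, mZ⟩ := gen hQ DQ h2 w2N
  replace nZ := nZ w1N'
  replace mZ := mZ w2N'
  set n := ρ ⟨w₁, w1N⟩ - 1 with hn
  set m := ρ ⟨w₂, w2N⟩ - 1 with hm
  have e1 : ρ ⟨w₁, w1N⟩ = 1 + n := by rw [hn]; abel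
  have e2 : ρ ⟨w₂, w2N⟩ = 1 + m := by rw [hm]; abel
  have e3 : ρ ⟨_, w1N'⟩ = 1 + n * Z := by rw [← nZ]; abel
  have e4 : ρ ⟨_, w2N'⟩ = 1 + m * Z := by rw [← mZ]; abel
  have eD : ∀ g : N, (g : G) ∈ D → ρ g = 1 := by
    intro g hg
    refine ext _ _ fun v => ?_
    rw [nEnd_apply, v.toMul.2.2 g hg, mul_inv_cancel_right]; rfl
  have ind : ∀ p : N → Prop, (∀ g k, p g → p k → p (g * k)) → (∀ g : N, (g : G) ∈ D → p g) →
      p ⟨w₁, w1N⟩ → p ⟨_, w1N'⟩ → p ⟨w₂, w2N⟩ → p ⟨_, w2N'⟩ →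
      ∃ H : Subgroup G, (∀ g : N, (g : G) ∈ H ↔ p g) ∧ a l ∈ H := by
    intro p hm hd p1 p2 p3 p4
    obtain ⟨H, hH⟩ := exists_sub p (hd 1 (one_mem _)) hm
    refine ⟨H, hH, (sup_le (sup_le (fun d hd' => ?_) (Fx_le ?_ ?_)) (Fx_le ?_ ?_)) hl⟩
    · exact (hH ⟨d, nV (le_normalizer hd')⟩).2 (hd _ hd')
    · exact (hH ⟨_, w1N⟩).2 p1
    · exact (hH ⟨_, w1N'⟩).2 p2
    · exact (hH ⟨_, w2N⟩).2 p3
    · exact (hH ⟨_, w2N'⟩).2 p4
  have aN : ∀ j, a j ∈ N := fun j => hV.2 (h.aA j)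
  have Z3 : Z * Z * Z = 1 := by
    rw [← map_mul, ← map_mul, ← map_one ρ]
    exact congrArg ρ (Subtype.ext h.zzz)
  obtain ⟨Zκ, nκ, mκ⟩ := ring_kappa_comm mm nn Zm Zn Z3
  obtain ⟨H, hH, hl1⟩ := ind (fun g => Commute (ρ g) (m * n + n * m))
    (fun g k hg hk => by
      rw [map_mul]
      exact hg.mul_left hk)
    (fun g hg => by rw [eD g hg]; exact Commute.one_left _)
    (by rw [e1]; exact (Commute.one_left _).add_left nκ)
    (by rw [e3]; exact (Commute.one_left _).add_left (nκ.mul_left Zκ))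
    (by rw [e2]; exact (Commute.one_left _).add_left mκ)
    (by rw [e4]; exact (Commute.one_left _).add_left (mκ.mul_left Zκ))
  have hακ := (hH ⟨_, aN (i + 1)⟩).1 (h.gen ((hH ⟨z, hV.2 h.zA⟩).2 Zκ) hl1 (h.aA (i + 1)))
  have ⟨mn, nm⟩ : m * n = 0 ∧ n * m = 0 := by
    refine ring_kappa (α := ρ ⟨_, aN (i + 1)⟩) (β := ρ ⟨_, aN (i + 1)⟩⁻¹) h3 Zm hZ
      (by rw [← map_mul, mul_inv_cancel, map_one]) ?_ ?_ ?_ hακ.eq
    · rw [hm, mul_sub, sub_mul, ← map_mul, ← map_mul, mul_one, one_mul]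
      congr 2
      exact Subtype.ext t2.symm
    · rw [← map_mul, ← map_mul]
      exact congrArg ρ (Subtype.ext (h.mul_comm' (h.aA _) h.zA))
    · rw [← nZ, hn, mul_sub, sub_mul, ← map_mul, ← map_mul, mul_one, one_mul]
      congr 2
      refine Subtype.ext ?_
      change a (i + 1) * w₁ = z * w₁ * z⁻¹ * a (i + 1)
      rw [h.succ, h.mul_comm' (h.aA i) h.zA, mul_assoc z (a i), ← t1]
      group
  have stab : ∀ s : AddMonoid.End (Additive (Zc D)), s * n = 0 → s * m = 0 →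
      s * ρ ⟨_, aN l⟩ = s := by
    intro s sn sm
    obtain ⟨H, hH, hl1⟩ := ind (fun g => s * ρ g = s)
      (fun g k hg hk => by
        simp only [map_mul] at hg hk ⊢
        rw [← mul_assoc, hg, hk])
      (fun g hg => by simp only [eD g hg, mul_one])
      (by simp only [e1, mul_add, sn, mul_one, add_zero])
      (by simp only [e3, mul_add, ← mul_assoc, sn, mul_one, add_zero, zero_mul])
      (by simp only [e2, mul_add, sm, mul_one, add_zero])
      (by simp only [e4, mul_add, ← mul_assoc, sm, mul_one, add_zero, zero_mul])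
    exact (hH ⟨_, aN l⟩).1 hl1
  have ht : (ρ ⟨_, aN l⟩ - 1) * ρ ⟨_, aN l⟩ = ρ ⟨_, aN l⟩ - 1 := by
    obtain ⟨H, hH, hl1⟩ := ind (fun g => (ρ g - 1) * ρ ⟨_, aN l⟩ = ρ g - 1)
      (fun g k hg hk => by
        rw [map_mul]
        exact ring_stab hg hk)
      (fun g hg => by simp only [eD g hg, sub_self, zero_mul])
      (stab _ nn nm)
      (by simp only [nZ]
          exact stab _ (by rw [mul_assoc, Zn, ← mul_assoc, nn, zero_mul])
            (by rw [mul_assoc, Zm, ← mul_assoc, nm, zero_mul]))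
      (stab _ mn mm)
      (by simp only [mZ]
          exact stab _ (by rw [mul_assoc, Zn, ← mul_assoc, mn, zero_mul])
            (by rw [mul_assoc, Zm, ← mul_assoc, mm, zero_mul]))
    exact (hH ⟨_, aN l⟩).1 hl1
  have hρa : ρ ⟨_, aN l⟩ - 1 = 0 := by
    apply h3
    have a3 : ρ ⟨_, aN l⟩ * ρ ⟨_, aN l⟩ * ρ ⟨_, aN l⟩ = 1 := by
      rw [← map_mul, ← map_mul, ← map_one ρ]
      exact congrArg ρ (Subtype.ext (h.aaa l))
    exact ring_cube ht a3
  have hV1 : ∀ v ∈ Zc D, a l * v = v * a l := by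
    intro v hv
    have := nEnd_sub_one (Zc D) ⟨_, aN l⟩ (Additive.ofMul ⟨v, hv⟩)
    rw [← hρ, hρa] at this
    exact commutatorElement_eq_one_iff_mul_comm.1 this.symm
  have hgen : ∀ {S : Subgroup G} (hS : Inv A S) (DS : D ≤ S) (Sn : S ≤ normalizer (D : Set G))
      {w : G} (hw : w ∈ S), ∀ d ∈ D, ⁅w, d⁆ ∈ Zc D := by
    intro S hS DS Sn w hw d hd
    exact mem_inf.2 ⟨D.mul_mem (mem_normalizer_conj (Sn hw) hd) (D.inv_mem hd),
      centralizer_le DS (h.cls hS hw (DS hd)).2⟩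
  obtain ⟨H, hH, hl1⟩ := ind (fun g => ∀ d ∈ D, ⁅(g : G), d⁆ ∈ Zc D)
    (fun g k hg hk d hd => by
      have : ⁅((g * k : N) : G), d⁆ = g * ⁅(k : G), d⁆ * (g : G)⁻¹ * ⁅(g : G), d⁆ := by
        simp only [coe_mul, commutatorElement_def]; group
      rw [this]
      exact mul_mem (mem_normalizer_conj g.2 (hk d hd)) (hg d hd))
    (fun g hg => hgen hD le_rfl le_normalizer hg)
    (hgen hP DP Pn h1) (hgen hP DP Pn (mem_normalizer_conj (hP.2 h.zA) h1))
    (hgen hQ DQ Qn h2) (hgen hQ DQ Qn (mem_normalizer_conj (hQ.2 h.zA) h2))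
  intro d hd
  have hv : ⁅a l, d⁆ ∈ Zc D := (hH ⟨_, aN l⟩).1 hl1 d hd
  have hc := hV1 _ hv
  have : ⁅a l, d⁆ = 1 := by
    refine eq_one_of_cube hV.1 hv ?_
    have e : a l * d = ⁅a l, d⁆ * d * a l := by simp only [commutatorElement_def]; group
    generalize ⁅a l, d⁆ = v at hc e
    have e' : a l * a l * a l * d = v * v * v * d * (a l * a l * a l) := by
      calc a l * a l * a l * d = a l * a l * (a l * d) := by group
        _ = a l * (a l * v) * d * a l := by rw [e]; group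
        _ = (a l * v) * (a l * d) * a l := by
          conv_lhs => rw [hc]
          group
        _ = v * (a l * v) * d * a l * a l := by
          conv_lhs => rw [hc, e]
          group
        _ = v * v * (a l * d) * a l * a l := by rw [hc]; group
        _ = _ := by rw [e]; group
    rw [h.aaa, one_mul, mul_one] at e'
    exact (mul_eq_right.1 e'.symm)
  exact (commutatorElement_eq_one_iff_mul_comm.1 this).symm

end St

end Cfsg.Lib.Mas
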