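import Cfsg.Agent.Mas.A2
import Cfsg.Agent.Local.BaerSuzuki

/-!
# The bad configuration, part 3: maximal intersections
-/

set_option autoImplicit false
set_option linter.unusedVariables false

namespace Cfsg.Lib.Mas

open Subgroup Cfsg.Lib.Char.KM Cfsg.Lib.Trans Cfsg.Lib.Local
open scoped commutatorElement IsMulCommutative

variable {G : Type*} [Group G]

/-- Two non-conjugate maximal invariant 2-subgroups of `M` with largest intersection `D`. -/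
structure Bad (A O M D P Q : Subgroup G) : Prop where
  am : A ≤ normalizer (M : Set G)
  ch : CharP 2 (M ⊓ normalizer (D : Set G))
  p : Mx A M P
  q : Mx A M Q
  nc : ¬ Cj O M P Q
  eq : P ⊓ Q = D
  mx : ∀ P' Q', Mx A M P' → Mx A M Q' → ¬ Cj O M P' Q' →
    Nat.card (P' ⊓ Q' : Subgroup G) ≤ Nat.card D

theorem card_lt_of_not_le [Finite G] {D S : Subgroup G} (h : D ≤ S) (h' : ¬ S ≤ D) :
    Nat.card D < Nat.card S := by
  by_contra hc
  exact h' (eq_of_le_of_card_ge h (not_lt.1 hc)).ge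

theorem card_lt_of_mem [Finite G] {D S : Subgroup G} (h : D ≤ S) {w : G} (hw : w ∈ S)
    (hD : w ∉ D) : Nat.card D < Nat.card S := card_lt_of_not_le h fun e => hD (e hw)

theorem exists_bad [Finite G] {A O M : Subgroup G} (c : Subgroup G → Prop)
    (hc : ∀ X Y : Subgroup G, c X → Nat.card X ≤ Nat.card Y → c Y) {P Q : Subgroup G} (hP : Mx A M P)
    (hQ : Mx A M Q) (nc : ¬ Cj O M P Q) (h : c (P ⊓ Q)) :
    ∃ P Q : Subgroup G, Mx A M P ∧ Mx A M Q ∧ ¬ Cj O M P Q ∧ c (P ⊓ Q) ∧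
      ∀ P' Q', Mx A M P' → Mx A M Q' → ¬ Cj O M P' Q' →
        Nat.card (P' ⊓ Q' : Subgroup G) ≤ Nat.card (P ⊓ Q : Subgroup G) := by
  obtain ⟨⟨P₁, Q₁⟩, ⟨h1, h2, h3⟩, h4⟩ := Set.exists_max_image
    {x : Subgroup G × Subgroup G | Mx A M x.1 ∧ Mx A M x.2 ∧ ¬ Cj O M x.1 x.2}
    (fun x => Nat.card (x.1 ⊓ x.2 : Subgroup G)) (Set.toFinite _) ⟨(P, Q), hP, hQ, nc⟩
  exact ⟨P₁, Q₁, h1, h2, h3, hc _ _ h (h4 (P, Q) ⟨hP, hQ, nc⟩),
    fun P' Q' k1 k2 k3 => h4 (P', Q') ⟨k1, k2, k3⟩⟩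

namespace Bad

variable {A O M D P Q : Subgroup G} (b : Bad A O M D P Q)
include b

theorem symm : Bad A O M D Q P :=
  ⟨b.am, b.ch, b.q, b.p, fun h => b.nc h.symm, by rw [inf_comm, b.eq], b.mx⟩

theorem DP : D ≤ P := b.eq ▸ inf_le_left

theorem DM : D ≤ M := b.DP.trans b.p.2.1

theorem inv : Inv A D := b.eq ▸ b.p.1.inf b.q.1.2

theorem not_le : ¬ P ≤ D := fun e => by
  have := b.p.2.2 Q b.q.1 b.q.2.1 (e.trans b.symm.DP)
  exact b.nc (this ▸ Cj.refl O M Q)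

variable [Finite G]

theorem cj_of {P' Q' S : Subgroup G} (hP : Mx A M P') (hQ : Mx A M Q') (h1 : S ≤ P')
    (h2 : S ≤ Q') (hc : Nat.card D < Nat.card S) : Cj O M P' Q' := by
  by_contra nc
  have := b.mx P' Q' hP hQ nc
  have := Subgroup.card_le_of_le (le_inf h1 h2)
  omega

theorem same {P' Q' : Subgroup G} (hP : Mx A M P') (hQ : Mx A M Q') (nc : ¬ Cj O M P' Q')
    (h1 : D ≤ P') (h2 : D ≤ Q') : Bad A O M D P' Q' :=
  ⟨b.am, b.ch, hP, hQ, nc, (eq_of_le_of_card_ge (le_inf h1 h2) (b.mx P' Q' hP hQ nc)).symm, b.mx⟩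

theorem lt_norm : Nat.card D < Nat.card (P ⊓ normalizer (D : Set G) : Subgroup G) := by
  obtain ⟨x, h1, h2, h3⟩ := exists_mem_normalizer_not_mem_of_lt b.p.1.1
    (lt_of_le_not_ge b.DP b.not_le)
  exact card_lt_of_mem (le_inf b.DP le_normalizer) ⟨h1, h2⟩ h3

theorem core : pCoreOf 2 (M ⊓ normalizer (D : Set G)) ≤ D := by
  by_contra hne
  set R := pCoreOf 2 (M ⊓ normalizer (D : Set G)) with hR
  have hA : A ≤ normalizer (M ⊓ normalizer (D : Set G) : Subgroup G) :=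
    Solv.le_normalizer_inf b.am (Solv.le_normalizer_normalizer b.inv.2)
  have hI : Inv A R := ⟨isPGroup_pCoreOf _, hA.trans (normalizer_le_normalizer_pCoreOf _)⟩
  have hRM : R ≤ M := (pCoreOf_le _).trans inf_le_left
  have hDR : D ≤ R := le_pCoreOf (le_inf b.DM le_normalizer) inf_le_right b.inv.1
  have key : ∀ {P Q : Subgroup G}, Bad A O M D P Q → ∃ P', Mx A M P' ∧ R ≤ P' ∧ Cj O M P P' := by
    intro P Q b
    obtain ⟨P', h1, h2⟩ := exists_mx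
      ((b.p.1.inf (Solv.le_normalizer_normalizer b.inv.2)).sup hI
        ((inf_le_inf_right _ b.p.2.1).trans (le_normalizer_pCoreOf _)))
      (sup_le (inf_le_left.trans b.p.2.1) hRM)
    exact ⟨P', h1, le_sup_right.trans h2,
      b.cj_of b.p h1 inf_le_left (le_sup_left.trans h2) b.lt_norm⟩
  obtain ⟨P', h1, h2, h3⟩ := key b
  obtain ⟨Q', k1, k2, k3⟩ := key b.symm
  exact b.nc (h3.trans ((b.cj_of h1 k1 h2 k2 (card_lt_of_not_le hDR hne)).trans k3.symm))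

theorem cent {x : G} (hM : x ∈ M) (hx : x ∈ centralizer (D : Set G)) : x ∈ D :=
  b.core (b.ch ⟨⟨hM, centralizer_le_normalizer _ hx⟩, centralizer_le b.core hx⟩)

end Bad

namespace St

variable {A O : Subgroup G} {z u : G} {a : ZMod 3 → G} (h : St A O z u a) [Finite G]
  {M D P Q : Subgroup G}
include h

theorem star (b : Bad A O M D P Q) {c : G} (hc : c ∈ O) (hcM : c ∈ M) {S S₁ S₂ : Subgroup G}
    (hS : Inv A S) (hSM : S ≤ M) (h1 : cj c S₁ ≤ S) (h1' : S₁ ≤ P) (h2 : S₂ ≤ S) (h2' : S₂ ≤ Q)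
    (c1 : Nat.card D < Nat.card S₁) (c2 : Nat.card D < Nat.card S₂) : False := by
  obtain ⟨R, hR, hSR⟩ := exists_mx hS hSM
  have e1 := b.cj_of (h.mx_cj b.p hc hcM) hR (cj_mono c h1') (h1.trans hSR) (by rwa [card_cj])
  have e2 := b.cj_of hR b.q (h2.trans hSR) h2' c2
  exact b.nc ((Cj.trans ⟨c, hc, hcM, rfl⟩ e1).trans e2)

theorem norm_D (b : Bad A O M D P Q) {S : Subgroup G} (hS : Inv A S) (hSM : S ≤ M)
    (hD : D ≤ S) : S ≤ normalizer (D : Set G) := fun w hw => by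
  refine Solv.mem_normalizer_of_conj_mem fun d hd => ?_
  have h1 := h.cls hS hw (hD hd)
  have h2 := b.cent (hSM h1.1) (centralizer_le hD h1.2)
  have := mul_mem h2 hd
  rwa [commutatorElement_def, inv_mul_cancel_right] at this

theorem norm_P (b : Bad A O M D P Q) : P ≤ normalizer (D : Set G) :=
  h.norm_D b b.p.1 b.p.2.1 b.DP

theorem k6 (b : Bad A O M D P Q) {K : Subgroup G} (hK : (Nat.card K).Coprime 3)
    (hn : A ≤ normalizer (K : Set G)) (hKM : K ≤ M) (hKD : K ≤ normalizer (D : Set G))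
    {w₁ w₂ : G} (h1 : w₁ ∈ P) (h1D : w₁ ∉ D) (h1K : w₁ ∈ K) (h2 : w₂ ∈ Q) (h2D : w₂ ∉ D)
    (h2K : w₂ ∈ K) : False := by
  have hc : (Nat.card (D ⊔ K : Subgroup G)).Coprime 3 :=
    Nat.Coprime.coprime_dvd_left (Solv.card_sup_dvd_of_le_normalizer hKD)
      (Nat.Coprime.mul_left (coprime_two_three b.inv.1) hK)
  have hn' := Solv.le_normalizer_sup b.inv.2 hn
  obtain ⟨c, hc, hcK, R, hR, hRK, k1, k2⟩ := h.conj_into hc hn' (b.p.1.inf hn') (b.q.1.inf hn')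
    inf_le_right inf_le_right
  have hM : D ⊔ K ≤ M := sup_le b.DM hKM
  exact h.star b hc (hM hcK) hR (hRK.trans hM) k1 inf_le_left k2 inf_le_left
    (card_lt_of_mem (le_inf b.DP le_sup_left) ⟨h1, mem_sup_right h1K⟩ h1D)
    (card_lt_of_mem (le_inf b.symm.DP le_sup_left) ⟨h2, mem_sup_right h2K⟩ h2D)

theorem k7 (b : Bad A O M D P Q) {i : ZMod 3} {w₁ w₂ : G} (h1 : w₁ ∈ P) (h1D : w₁ ∉ D)
    (t1 : w₁ * a i = a i * w₁) (h2 : w₂ ∈ Q) (h2D : w₂ ∉ D) (t2 : w₂ * a i = a i * w₂) :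
    False := by
  obtain ⟨T, k1, k2, k3⟩ := h.theta i
  have m1 := k3 _ (h.inv_Ty b.p.1 i).1 (h.inv_Ty b.p.1 i).2 inf_le_right (mem_Ty.2 ⟨h1, t1⟩)
  have m2 := k3 _ (h.inv_Ty b.q.1 i).1 (h.inv_Ty b.q.1 i).2 inf_le_right (mem_Ty.2 ⟨h2, t2⟩)
  exact h.k6 b (K := T ⊓ (M ⊓ normalizer (D : Set G)))
    (Nat.Coprime.coprime_dvd_left (card_dvd_of_le inf_le_left) k1)
    (Solv.le_normalizer_inf k2
      (Solv.le_normalizer_inf b.am (Solv.le_normalizer_normalizer b.inv.2)))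
    (inf_le_right.trans inf_le_left) (inf_le_right.trans inf_le_right)
    h1 h1D ⟨m1, b.p.2.1 h1, h.norm_P b h1⟩ h2 h2D ⟨m2, b.q.2.1 h2, h.norm_P b.symm h2⟩

theorem k8 (b : Bad A O M D P Q) : ∃ P Q, Bad A O M D P Q ∧ ∃ i w₁ w₂, w₁ ∈ P ∧ w₁ ∉ D ∧
    w₁ * a i = a i * w₁ ∧ w₂ ∈ Q ∧ w₂ ∉ D ∧ w₂ * a (i + 1) = a (i + 1) * w₂ := by
  obtain ⟨i, w₁, h1, t1, h1D⟩ := h.exists_Ty b.p.1 b.not_le
  obtain ⟨j, w₂, h2, t2, h2D⟩ := h.exists_Ty b.q.1 b.symm.not_le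
  rcases zmod3_cases j i with rfl | rfl | rfl
  · exact (h.k7 b h1 h1D t1 h2 h2D t2).elim
  · exact ⟨P, Q, b, i, w₁, w₂, h1, h1D, t1, h2, h2D, t2⟩
  · refine ⟨Q, P, b.symm, i + 1 + 1, w₂, w₁, h2, h2D, t2, h1, h1D, ?_⟩
    have : ∀ i : ZMod 3, i + 1 + 1 + 1 = i := by decide
    rwa [this]

/-- Transitivity inside the centralizer of a typed abelian invariant 2-subgroup. -/
theorem trans_F {F : Subgroup G} (hF : Inv A F) (hF1 : F ≠ ⊥) (hc : F ≤ centralizer (F : Set G))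
    {l : ZMod 3} (hl : F ≤ centralizer ({a l} : Set G)) (hP : Mx A (centralizer F) P)
    (hQ : Mx A (centralizer F) Q) : Cj O (centralizer F) P Q := by
  by_contra nc
  obtain ⟨P, Q, hP, hQ, nc, -, hmx⟩ := exists_bad (fun _ => True) (fun _ _ _ _ => trivial)
    hP hQ nc trivial
  have FP : ∀ {P : Subgroup G}, Mx A (centralizer F) P → F ≤ P := by
    intro P hP
    rw [← hP.2.2 (P ⊔ F) (hP.1.sup hF (hP.2.1.trans (centralizer_le_normalizer _)))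
      (sup_le hP.2.1 hc) le_sup_left]
    exact le_sup_right
  have FD : F ≤ P ⊓ Q := le_inf (FP hP) (FP hQ)
  have hch : CharP 2 (centralizer (F : Set G) ⊓ normalizer ((P ⊓ Q : Subgroup G) : Set G)) := by
    rw [inf_comm]
    exact (charP_iff.2 (h.loc _ (hP.1.1.to_le inf_le_left)
      fun e => hF1 (le_bot_iff.1 (e ▸ FD)))).inf_centralizer hF.1 (FD.trans le_normalizer)
  have b : Bad A O (centralizer F) (P ⊓ Q) P Q :=
    ⟨Solv.le_normalizer_centralizer hF.2, hch, hP, hQ, nc, rfl, hmx⟩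
  generalize P ⊓ Q = D at b FD
  obtain ⟨P, Q, b, i, w₁, w₂, h1, h1D, t1, h2, h2D, t2⟩ := h.k8 b
  set X := D ⊔ Fx z w₁ ⊔ Fx z w₂ with hX
  have i1 := h.inv_Fx b.p.1 h1 t1
  have i2 := h.inv_Fx b.q.1 h2 t2
  have l1 := h.Fx_le_of b.p.1.2 h1
  have l2 := h.Fx_le_of b.q.1.2 h2
  have hn : A ≤ normalizer (X : Set G) :=
    Solv.le_normalizer_sup (Solv.le_normalizer_sup b.inv.2 i1.2) i2.2
  have hXM : X ≤ centralizer F := sup_le (sup_le b.DM (l1.trans b.p.2.1)) (l2.trans b.q.2.1)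
  have hXD : X ≤ normalizer (D : Set G) :=
    sup_le (sup_le le_normalizer (l1.trans (h.norm_P b))) (l2.trans (h.norm_P b.symm))
  have h3 : 3 ∣ Nat.card X := by
    by_contra h3
    exact h.k6 b ((Nat.Prime.coprime_iff_not_dvd Nat.prime_three).2 h3).symm hn hXM hXD h1 h1D
      (mem_sup_left (mem_sup_right (mem_Fx z w₁))) h2 h2D (mem_sup_right (mem_Fx z w₂))
  have : Fact (Nat.Prime 3) := ⟨Nat.prime_three⟩
  have h4 : 3 ∣ Nat.card (X ⊓ centralizer (A : Set G) : Subgroup G) :=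
    (Nat.modEq_zero_iff_dvd.1 ((Solv.card_modEq_card_inf_centralizer h.pA hn).symm.trans
      (Nat.modEq_zero_iff_dvd.2 h3)))
  obtain ⟨k, hk⟩ := exists_prime_orderOf_dvd_card' 3 h4
  have hk3 : orderOf (k : G) = 3 := by rw [Subgroup.orderOf_coe, hk]
  obtain ⟨y, hy, hy1⟩ := (Subgroup.ne_bot_iff_exists_ne_one.1 hF1).imp fun y hy => And.intro y.2 hy
  obtain ⟨n, hn1, hn2⟩ := Rank2.exists_pow_invol hF.1 hy1
  have ht := h.np l k ((y ^ n : F) : G) hk3 (k.2.2 _ (h.aA l)).symm (congrArg Subtype.val hn2)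
    (fun e => hn1 (Subtype.ext e)) (hXM k.2.1 _ (y ^ n).2)
    (mem_centralizer_singleton_iff.1 (hl (y ^ n).2))
  have hal : a l ∈ X := by
    have e : zpowers (k : G) = zpowers (a l) :=
      eq_of_le_of_card_ge (zpowers_le.2 ht) (by rw [Nat.card_zpowers, Nat.card_zpowers, hk3, h.a3])
    exact zpowers_le.2 k.2.1 (e ▸ mem_zpowers (a l))
  have hcD := h.k10 b.p.1 b.q.1 b.inv b.DP b.symm.DP (h.norm_P b) (h.norm_P b.symm) h1 t1 h2 t2 hal
  exact h.a_ne l (eq_one_of_cube b.inv.1 (b.cent (hXM hal) hcD) (h.aaa l))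

end St

end Cfsg.Lib.Mas
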