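import Cfsg.Agent.Char.KM3

/-!
# Groups of characteristic 2 and 3 type: definitions
-/

set_option autoImplicit false

namespace Cfsg.Lib.Mas

open Subgroup Cfsg.Lib.Char.KM

/-- The conclusion of the dihedral lemma holds for every nontrivial abelian `p`-subgroup. -/
def Dih (p : ℕ) (G : Type*) [Group G] : Prop :=
  ∀ D U : Subgroup G, IsPGroup p D → IsMulCommutative D → D ≠ ⊥ → IsMulCommutative U →
    (∀ v ∈ U, v * v = 1) → U ≤ centralizer (D : Set G) →
    ∃ A : Subgroup G, D ≤ A ∧ IsMulCommutative A ∧ ∀ v ∈ U, v ≠ 1 →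
      ∃ x ∈ A, x ≠ 1 ∧ x ^ p = 1 ∧ v * x * v⁻¹ = x⁻¹ ∧
        ∀ w ∈ U, w * x * w⁻¹ = x ∨ w * x * w⁻¹ = x⁻¹

/-- No elementary abelian group of order 27 centralizes an involution. -/
def N27 (G : Type*) [Group G] : Prop :=
  ∀ (D : Subgroup G) (u : G), Pair 3 D u → Nat.card D ≤ 9

/-- No element of order 3 centralizes an elementary abelian group of order 8. -/
def N38 (G : Type*) [Group G] : Prop :=
  ∀ h : G, orderOf h = 3 → ∀ E : Subgroup G, E ≤ centralizer ({h} : Set G) →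
    IsMulCommutative E → (∀ e ∈ E, e * e = 1) → Nat.card E ≤ 4

end Cfsg.Lib.Mas
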