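import Cfsg.Agent.Mas.Defs

/-!
# Pairs under the dihedral hypothesis
-/

set_option autoImplicit false
set_option linter.unusedSectionVars false

open scoped commutatorElement IsMulCommutative

namespace Cfsg.Lib.Mas

open Subgroup Cfsg.Lib.Solv Cfsg.Lib.Solv.Coprime
open Cfsg.Lib.Char.KM hiding pair_of_four pair_of_eight

variable {G : Type*} [Group G]

theorem pair_of_four [Finite G] {p : ℕ} [hp : Fact p.Prime] (hp2 : p ≠ 2) (hG : Dih p G)
    {D : Subgroup G} {u w : G} (hD1 : D ≠ ⊥) (h : Pair p D u) (hw : w * w = 1) (hw1 : w ≠ 1)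
    (hwu : w ≠ u) (hc : u * w = w * u) (hwD : ∀ d ∈ D, d * w = w * d) :
    ∃ (E : Subgroup G) (a : G), Pair p E a ∧ Nat.card E = p * Nat.card D := by
  obtain ⟨hU, hU2⟩ := closure_elem (S := {u, w})
    (by rintro x (rfl | rfl) y (rfl | rfl) <;> simp [hc]) (by rintro x (rfl | rfl); exacts [h.sq, hw])
  have hu : u ∈ closure ({u, w} : Set G) := subset_closure (by simp)
  have hw' : w ∈ closure ({u, w} : Set G) := subset_closure (by simp)
  have hUD : closure ({u, w} : Set G) ≤ centralizer (D : Set G) := (closure_le _).mpr (by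
    rintro x (rfl | rfl)
    exacts [mem_centralizer_iff.mpr h.cent, mem_centralizer_iff.mpr hwD])
  obtain ⟨A, hDA, hA, hx⟩ := hG _ _ (isPGroup_of_pow h.pow) h.comm hD1 hU hU2 hUD
  obtain ⟨x, hxA, hx1, hxp, hxu, hxe⟩ := hx u hu h.ne
  obtain ⟨a, ha, hax⟩ := fix_or hxu (hxe w hw')
  have haU : a ∈ closure ({u, w} : Set G) := by
    rcases ha with rfl | rfl
    exacts [hw', mul_mem hu hw']
  obtain ⟨e1, e2, e3, e4⟩ := adjoin_elt hA hDA h.pow hxA hxp
    fun hd => not_comm_of_inv hp2 hx1 hxp hxu (h.cent x hd)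
  refine ⟨_, a, ⟨isMulCommutative_of fun s hs t ht => comm_of_mem hA (e1 hs) (e1 ht), e2,
    hU2 a haU, ?_, e4 a (mem_centralizer_iff.mp (hUD haU)) hax⟩, e3⟩
  rcases ha with rfl | rfl
  · exact hw1
  · intro e; apply hwu; rw [← inv_eq_of_mul_eq_one_right e]; exact inv_eq_of_mul_eq_one_right h.sq

theorem pair_of_eight [Finite G] {p : ℕ} [hp : Fact p.Prime] (hp2 : p ≠ 2) (hG : Dih p G)
    {D : Subgroup G} {u w w' : G} (hD1 : D ≠ ⊥) (h : Pair p D u) (hw : w * w = 1)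
    (hw' : w' * w' = 1) (hc : u * w = w * u) (hc' : u * w' = w' * u) (hc'' : w * w' = w' * w)
    (n1 : w ≠ 1) (n2 : w ≠ u) (n3 : w' ≠ 1) (n4 : w' ≠ u) (n5 : w * w' ≠ 1) (n6 : w * w' ≠ u)
    (hwD : ∀ d ∈ D, d * w = w * d) (hwD' : ∀ d ∈ D, d * w' = w' * d) :
    ∃ (E : Subgroup G) (a : G), Pair p E a ∧ Nat.card E = p * (p * Nat.card D) ∧ D ≤ E ∧
      a ∈ closure ({u, w, w'} : Set G) ∧ a ≠ u ∧ ∃ x ∈ E, x ≠ 1 ∧ u * x * u⁻¹ = x⁻¹ := by
  obtain ⟨hU, hU2⟩ := closure_elem (S := {u, w, w'})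
    (by rintro x (rfl | rfl | rfl) y (rfl | rfl | rfl) <;> simp [hc, hc', hc''])
    (by rintro x (rfl | rfl | rfl); exacts [h.sq, hw, hw'])
  set U := closure ({u, w, w'} : Set G) with hUdef
  have hu : u ∈ U := subset_closure (by simp)
  have hwU : w ∈ U := subset_closure (by simp)
  have hwU' : w' ∈ U := subset_closure (by simp)
  have hUD : U ≤ centralizer (D : Set G) := (closure_le _).mpr (by
    rintro x (rfl | rfl | rfl)
    exacts [mem_centralizer_iff.mpr h.cent, mem_centralizer_iff.mpr hwD,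
      mem_centralizer_iff.mpr hwD'])
  obtain ⟨A, hDA, hA, hx⟩ := hG _ _ (isPGroup_of_pow h.pow) h.comm hD1 hU hU2 hUD
  obtain ⟨x, hxA, hx1, hxp, hxu, hxe⟩ := hx u hu h.ne
  obtain ⟨b, hb, hbx⟩ := fix_or hxu (hxe w hwU)
  obtain ⟨c, hc0, hcx⟩ := fix_or hxu (hxe w' hwU')
  have hbU : b ∈ U := by
    rcases hb with rfl | rfl
    exacts [hwU, mul_mem hu hwU]
  have hcU : c ∈ U := by
    rcases hc0 with rfl | rfl
    exacts [hwU', mul_mem hu hwU']
  have hui : ∀ t, u * t = 1 → t = u := fun t e => by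
    rw [← inv_eq_of_mul_eq_one_right e]; exact inv_eq_of_mul_eq_one_right h.sq
  have hb1 : b ≠ 1 := by
    rcases hb with rfl | rfl
    exacts [n1, fun e => n2 (hui _ e)]
  have hc1 : c ≠ 1 := by
    rcases hc0 with rfl | rfl
    exacts [n3, fun e => n4 (hui _ e)]
  have hbc : b * c ≠ 1 := by
    rcases hb with rfl | rfl <;> rcases hc0 with rfl | rfl
    · exact n5
    · intro e; apply n6; apply hui; rw [← mul_assoc, hc, mul_assoc, e]
    · intro e; apply n6; apply hui; rw [← mul_assoc, e]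
    · intro e; apply n5
      rw [← e, ← mul_assoc, mul_assoc u w u, ← hc, ← mul_assoc, h.sq, one_mul]
  obtain ⟨y, hyA, hy1, hyp, hyb, hye⟩ := hx b hbU hb1
  obtain ⟨a, ha, hay⟩ := fix_or hyb (hye c hcU)
  have haU : a ∈ U := by
    rcases ha with rfl | rfl
    exacts [hcU, mul_mem hbU hcU]
  have hax : x * a = a * x := by
    rcases ha with rfl | rfl
    · exact hcx
    · rw [← mul_assoc, hbx, mul_assoc, hcx, mul_assoc]
  obtain ⟨e1, e2, e3, e4⟩ := adjoin_elt hA hDA h.pow hxA hxp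
    fun hd => not_comm_of_inv hp2 hx1 hxp hxu (h.cent x hd)
  obtain ⟨f1, f2, f3, f4⟩ := adjoin_elt hA e1 e2 hyA hyp
    fun hd => not_comm_of_inv hp2 hy1 hyp hyb
      (e4 b (mem_centralizer_iff.mp (hUD hbU)) hbx y hd)
  refine ⟨_, a, ⟨isMulCommutative_of fun s hs t ht => comm_of_mem hA (f1 hs) (f1 ht), f2,
    hU2 a haU, ?_, f4 a (e4 a (mem_centralizer_iff.mp (hUD haU)) hax) hay⟩, by rw [f3, e3],
    le_sup_left.trans le_sup_left, haU, fun e => not_comm_of_inv hp2 hx1 hxp hxu (e ▸ hax),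
    x, mem_sup_left (mem_sup_right (mem_zpowers x)), hx1, hxu⟩
  rcases ha with rfl | rfl
  exacts [hc1, hbc]

end Cfsg.Lib.Mas
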