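import Cfsg.Agent.Char.KM4
import Cfsg.Agent.Mas.K3

/-!
# Maximal pairs under the dihedral hypothesis
-/

set_option autoImplicit false
set_option linter.unusedSectionVars false

open scoped commutatorElement IsMulCommutative

namespace Cfsg.Lib.Mas

open Subgroup Cfsg.Lib.Solv Cfsg.Lib.Solv.Coprime
open Cfsg.Lib.Char.KM hiding pair_of_four pair_of_eight

variable {G : Type*} [Group G]

/-- a pair with `D` of largest order, at least `p ^ 2`. -/
structure MaxQ (p : ℕ) (D : Subgroup G) (u : G) : Prop extends Pair p D u where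
  max : ∀ (E : Subgroup G) (a : G), Pair p E a → Nat.card E ≤ Nat.card D
  big : p ^ 2 ≤ Nat.card D

section
variable [Finite G] {p : ℕ} [hp : Fact p.Prime] (hp2 : p ≠ 2) (hG : Dih p G)
  {D : Subgroup G} {u : G} (h : MaxQ p D u)
include h

theorem MaxQ.ne_bot_of {E : Subgroup G} (hE : Nat.card D ≤ p * Nat.card E) : E ≠ ⊥ := by
  rintro rfl
  have := h.big.trans hE
  rw [card_bot, mul_one] at this
  exact absurd this (not_le.mpr (by have := hp.out.one_lt; nlinarith))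

theorem MaxQ.ne_bot_hyp {E : Subgroup G} (hED : E ≤ D) (hE : E.relIndex D = p) : E ≠ ⊥ :=
  h.ne_bot_of (by rw [card_of_relIndex hED, hE])

theorem MaxQ.ne_bot : D ≠ ⊥ := h.ne_bot_of (Nat.le_mul_of_pos_left _ hp.out.pos)

include hp2 hG

theorem MaxQ.no_four {w : G} (hw : w * w = 1) (hw1 : w ≠ 1) (hwu : w ≠ u) (hc : u * w = w * u)
    (hwD : ∀ d ∈ D, d * w = w * d) : False := by
  obtain ⟨E, a, h1, h2⟩ := pair_of_four hp2 hG h.ne_bot h.toPair hw hw1 hwu hc hwD
  have := h.max E a h1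
  have h3 : 0 < Nat.card D := Nat.card_pos
  have h4 := hp.out.one_lt
  rw [h2] at this; nlinarith

theorem MaxQ.not_comm {E : Subgroup G} (hED : E ≤ D) (hE : E.relIndex D = p) {w d : G}
    (hw : w * w = 1) (hw1 : w ≠ 1) (hwu : w ≠ u) (hc : u * w = w * u)
    (hwE : ∀ e ∈ E, e * w = w * e) (hd : d ∈ D) (hdE : d ∉ E) :
    w * (d * w * d⁻¹) ≠ d * w * d⁻¹ * w := fun hcomm => by
  have hcard := card_of_relIndex hED
  rw [hE] at hcard
  have gen : ∀ d ∈ D, d ∉ E → d * w ≠ w * d := fun d hd hdE hdw => by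
    have e := PG.sup_zpowers_eq_of_card_eq_prime_mul hp.out hED hcard hd hdE
    have : D ≤ centralizer {w} := by
      rw [← e]
      exact sup_le (fun s hs => mem_centralizer_singleton_iff.mpr (hwE s hs))
        (zpowers_le.mpr (mem_centralizer_singleton_iff.mpr hdw))
    exact h.no_four hp2 hG hw hw1 hwu hc fun s hs => mem_centralizer_singleton_iff.mp (this hs)
  have hdu : d * u * d⁻¹ = u := by rw [h.cent d hd]; group
  have hwi : w⁻¹ = w := inv_eq_of_mul_eq_one_right hw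
  obtain ⟨F, a, h1, h2, -⟩ := pair_of_eight hp2 hG (h.ne_bot_hyp hED hE)
    (⟨isMulCommutative_of fun s hs t ht => comm_of_mem h.comm (hED hs) (hED ht),
      fun s hs => h.pow s (hED hs), h.sq, h.ne, fun s hs => h.cent s (hED hs)⟩ : Pair p E u)
    (w' := d * w * d⁻¹) hw (by rw [conj_mul, hw]; group) hc
    (by nth_rewrite 1 [← hdu]; nth_rewrite 2 [← hdu]; rw [conj_mul, conj_mul, hc]) hcomm hw1 hwu
    (by simpa using hw1) (fun e => hwu (by
      rw [← hdu] at e; simpa using e))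
    (fun e => gen d hd hdE (by
      rw [← eq_inv_mul_iff_mul_eq, mul_one, hwi] at e
      nth_rewrite 2 [← e]; group))
    (fun e => gen (d * d) (mul_mem hd hd) (fun hh => hdE (mem_of_sq_mem hp2 (h.pow d hd) hh)) (by
      rw [← eq_inv_mul_iff_mul_eq, hwi] at e
      have : d * d * w * (d * d)⁻¹ = w := by
        calc _ = d * (d * w * d⁻¹) * d⁻¹ := by group
          _ = d * (w * u) * d⁻¹ := by rw [e]
          _ = d * w * d⁻¹ * (d * u * d⁻¹) := by group
          _ = w := by rw [e, hdu, mul_assoc, h.sq, mul_one]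
      nth_rewrite 2 [← this]; group))
    hwE (fun e he => by
      have c1 : Commute e d := comm_of_mem h.comm (hED he) hd
      have c2 : Commute e w := hwE e he
      exact ((c1.mul_right c2).mul_right c1.inv_right).eq)
  have := h.max F a h1
  have h3 : 0 < Nat.card D := Nat.card_pos
  have h4 := hp.out.one_lt
  rw [h2, ← hcard] at this; nlinarith

theorem MaxQ.exists_not_mem {E : Subgroup G} (hE : E.relIndex D = p) : ∃ d ∈ D, d ∉ E := by
  by_contra! hn
  rw [relIndex_eq_one.mpr hn] at hE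
  exact hp.out.one_lt.ne hE

theorem MaxQ.invol {Y : Subgroup G} (hY : IsMulCommutative Y) (hYu : ∀ y ∈ Y, y * u = u * y)
    (hDY : D ≤ normalizer (Y : Set G)) {y : G} (hy : y ∈ Y) (hy2 : y * y = 1) : y = 1 ∨ y = u := by
  let W : Subgroup G :=
    { carrier := {x | x ∈ Y ∧ x * x = 1}
      one_mem' := ⟨one_mem _, by simp⟩
      mul_mem' := fun {a c} ha hc => ⟨mul_mem ha.1 hc.1, by
        calc _ = a * (c * a) * c := by group
          _ = a * a * (c * c) := by rw [comm_of_mem hY hc.1 ha.1]; group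
          _ = 1 := by rw [ha.2, hc.2, one_mul]⟩
      inv_mem' := fun {a} ha => ⟨inv_mem ha.1, by rw [← mul_inv_rev, ha.2, inv_one]⟩ }
  have hDW : D ≤ normalizer (W : Set G) := le_normalizer_of_conj fun g hg x hx =>
    ⟨(mem_normalizer_iff.mp (hDY hg) x).mp hx.1, by rw [conj_mul, hx.2]; group⟩
  have := h.comm
  have hW : W ≤ zpowers u := le_of_forall_hyperplane h.pow h.ne_bot hDW
    (coprime_of_pgroups hp2 (isPGroup_two_of_sq (U := W) fun v hv => hv.2) (isPGroup_of_pow h.pow)).symm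
    fun E hED hE w hw => by
      by_contra hn
      obtain ⟨d, hd, hdE⟩ := h.exists_not_mem hp2 hG hE
      exact h.not_comm hp2 hG hED hE hw.1.2 (fun e => hn (e ▸ one_mem _))
        (fun e => hn (e ▸ mem_zpowers _)) (hYu w hw.1.1).symm (mem_centralizer_iff.mp hw.2) hd hdE
        (comm_of_mem hY hw.1.1 ((mem_normalizer_iff.mp (hDY hd) w).mp hw.1.1))
  exact mem_zpowers_sq h.sq (hW ⟨hy, hy2⟩)

theorem MaxQ.cent_ab {Y : Subgroup G} (hY : IsMulCommutative Y) (hY2 : IsPGroup 2 Y)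
    (hYu : ∀ y ∈ Y, y * u = u * y) (hDY : D ≤ normalizer (Y : Set G)) :
    D ≤ centralizer (Y : Set G) := by
  have : Fact (Nat.Prime 2) := ⟨Nat.prime_two⟩
  refine le_centralizer_of_pow_prime_eq_one hY2 hDY (coprime_card_of_isPGroup
    (isPGroup_of_pow h.pow) ((Nat.coprime_primes Nat.prime_two hp.out).mpr hp2.symm))
    fun y hy hy2 => ?_
  rcases h.invol hp2 hG hY hYu hDY hy (by rw [← sq, hy2]) with rfl | rfl
  exacts [one_mem _, mem_centralizer_iff.mpr h.cent]

variable {X : Subgroup G} (hX : Crit u X)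
include hX

theorem MaxQ.norm : D ≤ normalizer (X : Set G) := fun d hd => hX.norm d (h.cent d hd)

theorem MaxQ.cop {E Y : Subgroup G} (hE : E ≤ D) (hY : Y ≤ X) :
    (Nat.card E).Coprime (Nat.card Y) :=
  (coprime_of_pgroups hp2 (hX.pgrp.to_le hY) ((isPGroup_of_pow h.pow).to_le hE)).symm

theorem MaxQ.faith {d : G} (hd : d ∈ D) (hc : d ∈ centralizer (X : Set G)) : d = 1 :=
  hX.faith d (h.cent d hd) (Nat.Coprime.coprime_dvd_left (orderOf_dvd_of_pow_eq_one (h.pow d hd))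
    ((Nat.coprime_primes hp.out Nat.prime_two).mpr hp2)) hc

theorem MaxQ.not_cent {E : Subgroup G} (hE : E ≤ D) (hE1 : E ≠ ⊥) :
    ¬ X ≤ centralizer (E : Set G) := fun hc =>
  hE1 (eq_bot_iff.mpr fun _ hd => h.faith hp2 hG hX (hE hd) (le_centralizer_iff.mp hc hd))

theorem MaxQ.norm_center : D ≤ normalizer ((X ⊓ centralizer (X : Set G) : Subgroup G) : Set G) :=
  le_normalizer_of_conj fun g hg x hx => ⟨(mem_normalizer_iff.mp (h.norm hp2 hG hX hg) x).mp hx.1,
    mem_centralizer_iff.mpr fun y hy => by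
      have := mem_centralizer_iff.mp hx.2 _
        ((mem_normalizer_iff.mp (inv_mem (h.norm hp2 hG hX hg)) y).mp hy)
      calc y * (g * x * g⁻¹) = g * (g⁻¹ * y * g⁻¹⁻¹ * x) * g⁻¹ := by group
        _ = g * (x * (g⁻¹ * y * g⁻¹⁻¹)) * g⁻¹ := by rw [this]
        _ = _ := by group⟩

theorem MaxQ.center_invol {z : G} (hz : z ∈ X) (hz' : z ∈ centralizer (X : Set G))
    (hz2 : z * z = 1) : z = 1 ∨ z = u :=
  h.invol hp2 hG (Y := X ⊓ centralizer (X : Set G))
    (isMulCommutative_of fun x hx _ hy => mem_centralizer_iff.mp hy.2 x hx.1)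
    (fun y hy => hX.cent y hy.1) (h.norm_center hp2 hG hX) ⟨hz, hz'⟩ hz2

theorem MaxQ.cent_center : D ≤ centralizer ((X ⊓ centralizer (X : Set G) : Subgroup G) : Set G) :=
  h.cent_ab hp2 hG (isMulCommutative_of fun x hx _ hy => mem_centralizer_iff.mp hy.2 x hx.1)
    (hX.pgrp.to_le inf_le_left) (fun y hy => hX.cent y hy.1) (h.norm_center hp2 hG hX)

theorem MaxQ.sq_or {x : G} (hx : x ∈ X) : x * x = 1 ∨ x * x = u :=
  h.center_invol hp2 hG hX (mul_mem hx hx) (by rw [← sq]; exact hX.sq x hx)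
    (by rw [← hX.four x hx]; simp only [pow_succ, pow_zero, one_mul, mul_assoc])

theorem MaxQ.comm_or : ∀ x ∈ X, ∀ y ∈ X, ⁅x, y⁆ = 1 ∨ ⁅x, y⁆ = u := fun x hx y hy => by
  have hm : ⁅x, y⁆ ∈ X := by
    rw [commutatorElement_def]
    exact mul_mem (mul_mem (mul_mem hx hy) (inv_mem hx)) (inv_mem hy)
  refine h.center_invol hp2 hG hX hm (hX.comm x hx y hy) ?_
  have c1 := mem_centralizer_iff.mp (hX.comm x hx y hy) x hx
  have c2 := mem_centralizer_iff.mp (hX.sq x hx) y hy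
  calc _ = (x * ⁅x, y⁆) * x⁻¹ * ⁅x, y⁆ := by rw [c1]; group
    _ = x ^ 2 * y * (y * x ^ 2)⁻¹ * 1 := by simp only [commutatorElement_def, sq]; group
    _ = 1 := by rw [c2]; group

theorem MaxQ.add : ∀ x ∈ X, ∀ y ∈ X, ∀ z ∈ X, bb (x * y) z = bb x z + bb y z :=
  bb_add h.sq h.ne hX.cent (h.comm_or hp2 hG hX)

theorem MaxQ.comm_eq {x y : G} (hx : x ∈ X) (hy : y ∈ X) (hn : x * y ≠ y * x) : ⁅x, y⁆ = u :=
  (h.comm_or hp2 hG hX x hx y hy).resolve_left
    fun e => hn (commutatorElement_eq_one_iff_mul_comm.mp e)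

/-- a nontrivial commutator subgroup `[Y, E]` is not abelian. -/
theorem MaxQ.nonab {Y E : Subgroup G} (hY : Y ≤ X) (hE : E ≤ D) (hDY : D ≤ normalizer (Y : Set G))
    (hn : ¬ Y ≤ centralizer (E : Set G)) : ∃ s ∈ ⁅Y, E⁆, ∃ t ∈ ⁅Y, E⁆, s * t ≠ t * s := by
  by_contra! hc
  have hle : ⁅Y, E⁆ ≤ Y := le_normalizer_iff_commutator_le_left.mp (hE.trans hDY)
  have := h.comm
  have h1 := h.cent_ab hp2 hG (isMulCommutative_of hc) (hX.pgrp.to_le (hle.trans hY))
    (fun y hy => hX.cent y (hY (hle hy))) (le_normalizer_of_conj fun g hg x hx => by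
      have e : (⁅Y, E⁆ : Subgroup G).map (MulAut.conj g).toMonoidHom ≤ ⁅Y, E⁆ := by
        rw [map_commutator]
        refine commutator_mono ?_ ?_
        · rintro _ ⟨y, hy, rfl⟩; exact (mem_normalizer_iff.mp (hDY hg) y).mp hy
        · rintro _ ⟨y, hy, rfl⟩
          exact (mem_normalizer_iff.mp (le_normalizer_of_le_of_comm hE hg) y).mp hy
      exact e ⟨x, hx, rfl⟩)
  have h2 := commutator_commutator (hE.trans hDY) (h.cop hp2 hG hX hE hY)
  rw [commutator_eq_bot_iff_le_centralizer.mpr (le_centralizer_iff.mp (hE.trans h1))] at h2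
  exact hn (commutator_eq_bot_iff_le_centralizer.mp h2.symm)

theorem MaxQ.mem : u ∈ X := by
  obtain ⟨s, hs, t, ht, hn⟩ := h.nonab hp2 hG hX le_rfl le_rfl (h.norm hp2 hG hX)
    (h.not_cent hp2 hG hX le_rfl h.ne_bot)
  have hle : ⁅X, D⁆ ≤ X := le_normalizer_iff_commutator_le_left.mp (h.norm hp2 hG hX)
  rw [← h.comm_eq hp2 hG hX (hle hs) (hle ht) hn, commutatorElement_def]
  exact mul_mem (mul_mem (mul_mem (hle hs) (hle ht)) (inv_mem (hle hs))) (inv_mem (hle ht))

theorem MaxQ.binv {x z : G} (hx : x ∈ X) (hz : z ∈ X) : bb x⁻¹ z = bb x z := by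
  have := h.add hp2 hG hX x hx x⁻¹ (X.inv_mem hx) z hz
  rw [mul_inv_cancel, bb_eq_zero.mpr (by simp)] at this
  linear_combination -this - z2_add_self (bb x z)

/-- `[X, E]` centralizes `C_X(E)`. -/
theorem MaxQ.comm_cent {E : Subgroup G} (hE : E ≤ D) {c : G} (hc : c ∈ X)
    (hcE : c ∈ centralizer (E : Set G)) : ⁅X, E⁆ ≤ centralizer {c} := by
  refine commutator_le.mpr fun x hx d hd => mem_centralizer_singleton_iff.mpr (bb_eq_zero.mp ?_)
  have e : ⁅x, d⁆ = x * (d * x⁻¹ * d⁻¹) := by rw [commutatorElement_def]; group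
  have e' : c = d * c * d⁻¹ := by rw [mem_centralizer_iff.mp hcE d hd]; group
  rw [e, h.add hp2 hG hX x hx _ ((mem_normalizer_iff.mp (h.norm hp2 hG hX (hE hd)) _).mp
    (inv_mem hx)) c hc]
  nth_rewrite 2 [e']
  rw [bb_conj, h.binv hp2 hG hX hx hc, z2_add_self]

/-- a quaternion pair in `[C_X(E), F]` for distinct hyperplanes. -/
theorem MaxQ.quat {E F : Subgroup G} (hE : E ≤ D) (hF : F ≤ D) (hEi : E.relIndex D = p)
    (hFE : ¬ F ≤ E) (hn : ¬ X ⊓ centralizer (E : Set G) ≤ centralizer (D : Set G)) :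
    ∃ x ∈ ⁅X ⊓ centralizer (E : Set G), F⁆, ∃ y ∈ ⁅X ⊓ centralizer (E : Set G), F⁆,
      x * x = u ∧ y * y = u ∧ bb x y = 1 := by
  have := h.comm
  obtain ⟨d, hdF, hdE⟩ := SetLike.not_le_iff_exists.mp hFE
  have hcard := card_of_relIndex hE
  rw [hEi] at hcard
  have hDY : D ≤ normalizer ((X ⊓ centralizer (E : Set G) : Subgroup G) : Set G) :=
    le_normalizer_of_conj fun g hg x hx =>
      have hg' : g ∈ centralizer (E : Set G) :=
        mem_centralizer_iff.mpr fun e he => comm_of_mem h.comm (hE he) hg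
      ⟨(mem_normalizer_iff.mp (h.norm hp2 hG hX hg) x).mp hx.1,
        (centralizer (E : Set G)).mul_mem ((centralizer (E : Set G)).mul_mem hg' hx.2)
          ((centralizer (E : Set G)).inv_mem hg')⟩
  have hle : ⁅X ⊓ centralizer (E : Set G), F⁆ ≤ X ⊓ centralizer (E : Set G) :=
    le_normalizer_iff_commutator_le_left.mp (hF.trans hDY)
  obtain ⟨s, hs, t, ht, hst⟩ := h.nonab hp2 hG hX inf_le_left hF hDY fun hc => hn (by
    rw [← PG.sup_zpowers_eq_of_card_eq_prime_mul hp.out hE hcard (hF hdF) hdE,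
      le_centralizer_iff]
    exact sup_le (le_centralizer_iff.mp inf_le_right)
      ((zpowers_le.mpr hdF).trans (le_centralizer_iff.mp hc)))
  have key : ∀ w ∈ ⁅X ⊓ centralizer (E : Set G), F⁆, w * w = 1 → w ≠ 1 → w ≠ u →
      ∃ x ∈ ⁅X ⊓ centralizer (E : Set G), F⁆, ∃ y ∈ ⁅X ⊓ centralizer (E : Set G), F⁆,
        x * x = u ∧ y * y = u ∧ bb x y = 1 := fun w hw hw2 hw1 hwu => by
    have hFn : ∀ g ∈ F, ∀ x ∈ ⁅X ⊓ centralizer (E : Set G), F⁆,
        g * x * g⁻¹ ∈ ⁅X ⊓ centralizer (E : Set G), F⁆ := fun g hg x hx => by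
      have e : g * x * g⁻¹ = ⁅x, g⁆⁻¹ * x := by simp only [commutatorElement_def]; group
      rw [e]; exact mul_mem (inv_mem (commutator_mem_commutator (hle hx) hg)) hx
    have hw' := hFn d hdF w hw
    have hw'' := hFn _ (mul_mem hdF hdF) w hw
    have nc := fun g hg hgE => h.not_comm hp2 hG hE hEi hw2 hw1 hwu (hX.cent w (hle hw).1).symm
      (mem_centralizer_iff.mp (hle hw).2) (d := g) hg hgE
    have n1 := nc d (hF hdF) hdE
    have n2 := nc (d * d) (hF (mul_mem hdF hdF))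
      fun hh => hdE (mem_of_sq_mem hp2 (h.pow d (hF hdF)) hh)
    have sq' : ∀ g, g * w * g⁻¹ ∈ X → w * (g * w * g⁻¹) ≠ g * w * g⁻¹ * w →
        w * (g * w * g⁻¹) * (w * (g * w * g⁻¹)) = u := fun g hg hn => by
      rw [← h.comm_eq hp2 hG hX (hle hw).1 hg hn, commutatorElement_def, conj_inv,
        inv_eq_of_mul_eq_one_right hw2]
      group
    refine ⟨_, mul_mem hw hw', _, mul_mem hw hw'', sq' d (hle hw').1 n1, sq' _ (hle hw'').1 n2, ?_⟩
    have e : d * d * w * (d * d)⁻¹ = d * (d * w * d⁻¹) * d⁻¹ := by group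
    rw [h.add hp2 hG hX _ (hle hw).1 _ (hle hw').1 _ (mul_mem (hle hw).1 (hle hw'').1),
      bb_symm w, bb_symm (d * w * d⁻¹), h.add hp2 hG hX _ (hle hw).1 _ (hle hw'').1 _ (hle hw).1,
      h.add hp2 hG hX _ (hle hw).1 _ (hle hw'').1 _ (hle hw').1, bb_self, bb_symm _ w,
      bb_eq_one.mpr n2, bb_eq_one.mpr n1, e, bb_conj, bb_symm, bb_eq_one.mpr n1]
    rfl
  rcases h.sq_or hp2 hG hX (hle hs).1 with h1 | h1
  · exact key s hs h1 (fun e => hst (by simp [e])) fun e => hst (e ▸ (hX.cent t (hle ht).1).symm)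
  rcases h.sq_or hp2 hG hX (hle ht).1 with h2 | h2
  · exact key t ht h2 (fun e => hst (by simp [e])) fun e => hst (e ▸ hX.cent s (hle hs).1)
  exact ⟨s, hs, t, ht, h1, h2, bb_eq_one.mpr hst⟩

end

end Cfsg.Lib.Mas
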