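import Cfsg.Agent.Mas.Defs
import Cfsg.Agent.Ngrp.ConC

/-!
# Groups of characteristic 2 and 3 type: the 3-local hypotheses and the bad configuration
-/

set_option autoImplicit false

namespace Cfsg.Lib.Mas

open Subgroup Cfsg.Lib.Char.KM Cfsg.Lib.Trans

variable {G : Type*} [Group G]

/-- The 3-local hypotheses. -/
structure H3 (P : Sylow 3 G) (B : Subgroup G) : Prop where
  scn : IsSCN (P : Subgroup G) B
  rk : ¬ PRankLE 3 2 B
  inv : ∀ X : Subgroup G, IsPGroup 2 X → (P : Subgroup G) ≤ normalizer (X : Set G) → X = ⊥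
  con : ∀ R : Subgroup G, IsPGroup 3 R → R ≠ ⊥ → IsPConstrained 3 (normalizer (R : Set G))

/-- `O_{3'}(N(⟨x⟩))` has odd order. -/
def Good (x : G) : Prop := Odd (Nat.card (ppCoreOf 3 (normalizer (zpowers x : Set G))))

/-- The configuration arising from an element `a 0` of order 3 that is not good. -/
structure St (A O : Subgroup G) (z u : G) (a : ZMod 3 → G) : Prop where
  loc : LocChar 2 G
  comm : IsMulCommutative A
  zA : z ∈ A
  aA : ∀ i, a i ∈ A
  succ : ∀ i, a (i + 1) = a i * z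
  z3 : orderOf z = 3
  a3 : ∀ i, orderOf (a i) = 3
  cases : ∀ x ∈ A, x = 1 ∨ x = z ∨ x = z⁻¹ ∨ ∃ i, x = a i ∨ x = (a i)⁻¹
  ncyc : ¬ IsCyclic A
  u3 : u ^ 3 = 1
  uz : u * z = z * u
  ua : ∀ i, u * a i * u⁻¹ = a (i + 1)
  Oc : O ≤ centralizer (A : Set G)
  O3 : (Nat.card O).Coprime 3
  uO : u ∈ normalizer (O : Set G)
  Omax : ∀ K : Subgroup G, K ≤ centralizer (A : Set G) → (Nat.card K).Coprime 3 → K ≤ O
  fpf : ∀ X : Subgroup G, IsPGroup 2 X → A ≤ normalizer (X : Set G) →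
    ∀ x ∈ X, z * x = x * z → x = 1
  theta : ∀ i, ∃ T : Subgroup G, (Nat.card T).Coprime 3 ∧ A ≤ normalizer (T : Set G) ∧
    ∀ X : Subgroup G, IsPGroup 2 X → A ≤ normalizer (X : Set G) →
      X ≤ centralizer ({a i} : Set G) → X ≤ T
  np : ∀ (i : ZMod 3) (k t : G), orderOf k = 3 → k * a i = a i * k → t * t = 1 → t ≠ 1 →
    t * k = k * t → t * a i = a i * t → k ∈ zpowers (a i)
  ex : ∃ X : Subgroup G, IsPGroup 2 X ∧ A ≤ normalizer (X : Set G) ∧ X ≠ ⊥ ∧
    X ≤ centralizer ({a 0} : Set G)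

/-- The conclusion drawn from the bad configuration. -/
def StOut (G : Type*) [Group G] : Prop :=
  ∀ (A O : Subgroup G) (z u : G) (a : ZMod 3 → G), St A O z u a →
    ∃ X : Subgroup G, IsPGroup 2 X ∧ X ≠ ⊥ ∧ A ≤ normalizer (X : Set G) ∧
      u ∈ normalizer (X : Set G)

end Cfsg.Lib.Mas
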